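import Cfsg.Agent.Lib.PSLClassSizes.Quot
import Cfsg.Agent.S4351
import Cfsg.Agent.S0337
import Cfsg.Agent.Lib.EPPO.Main
import Cfsg.Agent.Lib.PSL2.Facts
import Cfsg.Agent.Lib.Linear.PSLTwoSmall

/-!
# Class sizes of `PSL(2,q)`: the case of a CN quotient

* `CNOrder`, `XHyp.cnCases`: the possible orders and types
* `psl_mixed_arith`, `suzuki`-arithmetic
* `XHyp.exists_psl_even`: even `q`
-/

open Subgroup

set_option autoImplicit false
set_option linter.unusedSectionVars false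

namespace Cfsg.Agent.PSLClassSizes

open ThreeSizes

universe u

variable {X : Type u} [Group X] [Finite X]

/-- centralizer of one element -/
local notation "cent" x:max => Subgroup.centralizer ({x} : Set _)

theorem card_psl_even {K : Type*} [Field K] [Finite K] (h : Even (Nat.card K)) :
    Nat.card (Matrix.ProjectiveSpecialLinearGroup (Fin 2) K) + Nat.card K = Nat.card K ^ 3 := by
  rw [GLOrder.card_PSL_two_of_even h]
  obtain ⟨a, ha⟩ := Nat.exists_eq_add_of_le (Nat.one_le_pow 2 (Nat.card K) Finite.card_pos)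
  rw [ha, Nat.add_sub_cancel_left, pow_succ' (Nat.card K) 2, ha]
  ring

theorem card_psl_odd {K : Type*} [Field K] [Finite K] (h : Odd (Nat.card K)) :
    2 * Nat.card (Matrix.ProjectiveSpecialLinearGroup (Fin 2) K) + Nat.card K = Nat.card K ^ 3 := by
  rw [GLOrder.card_PSL_two_of_odd h]
  obtain ⟨a, ha⟩ := Nat.exists_eq_add_of_le (Nat.one_le_pow 2 (Nat.card K) Finite.card_pos)
  rw [ha, Nat.add_sub_cancel_left, pow_succ' (Nat.card K) 2, ha]
  ring

theorem cube_inj {a b : ℕ} (ha : 1 ≤ a) (hb : 1 ≤ b) (h : a ^ 3 + b = b ^ 3 + a) : a = b := by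
  rcases lt_trichotomy a b with h1 | h1 | h1
  · nlinarith [Nat.mul_le_mul h1 h1, Nat.mul_le_mul ha hb, Nat.pow_lt_pow_left h1 (show 3 ≠ 0 by norm_num)]
  · exact h1
  · nlinarith [Nat.mul_le_mul h1 h1, Nat.mul_le_mul ha hb, Nat.pow_lt_pow_left h1 (show 3 ≠ 0 by norm_num)]

/-- `PSL(2,q) = PSL(2,Q)` in order, `q` even and `Q = 2^k ± 1`. -/
theorem psl_mixed_arith {q Q n k : ℕ} (hq : q = 2 ^ n) (hn : 2 ≤ n)
    (hQ : Q = 2 ^ k + 1 ∨ Q + 1 = 2 ^ k) (e : Q ^ 3 + 2 * q = 2 * q ^ 3 + Q) : q = 4 ∧ Q = 5 := by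
  have h4 : 4 ≤ q := by rw [hq]; exact (show 2 ^ 2 ≤ 2 ^ n from Nat.pow_le_pow_right two_pos hn)
  have h1 : q < Q := by
    by_contra hc
    push Not at hc
    nlinarith [Nat.pow_le_pow_left hc 3, Nat.mul_le_mul (Nat.mul_le_mul h4 h4) (le_refl q)]
  have h2 : Q < 2 * q := by
    by_contra hc
    push Not at hc
    nlinarith [Nat.mul_le_mul (Nat.mul_le_mul hc hc) (le_refl Q), Nat.mul_le_mul h4 h4,
      Nat.mul_le_mul (Nat.mul_le_mul hc hc) hc]
  have hpow : 2 ^ (n + 1) = 2 * q := by rw [hq]; ring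
  rcases hQ with hQ | hQ
  · have hkn : k = n := by
      refine le_antisymm ?_ ?_ <;> by_contra hc <;> push Not at hc
      · have := Nat.pow_le_pow_right two_pos (show n + 1 ≤ k by omega); omega
      · have : 2 ^ (k + 1) ≤ 2 ^ n := Nat.pow_le_pow_right two_pos (by omega)
        rw [pow_succ] at this
        omega
    rw [hkn, ← hq] at hQ
    subst hQ
    have : q = 4 := by
      rcases Nat.eq_or_lt_of_le h4 with e' | e'
      · exact e'.symm
      · nlinarith [Nat.mul_le_mul (Nat.succ_le_of_lt e') (Nat.succ_le_of_lt e')]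
    exact ⟨this, by omega⟩
  · exfalso
    have hkn : k = n + 1 := by
      refine le_antisymm ?_ ?_ <;> by_contra hc <;> push Not at hc
      · have := Nat.pow_le_pow_right two_pos (show n + 2 ≤ k by omega)
        rw [pow_succ] at this
        omega
      · have := Nat.pow_le_pow_right two_pos (show k ≤ n by omega); omega
    rw [hkn, hpow] at hQ
    obtain ⟨r, rfl⟩ : ∃ r, q = r + 4 := ⟨q - 4, by omega⟩
    obtain rfl : Q = 2 * r + 7 := by omega
    nlinarith [Nat.zero_le (r * r * r), Nat.zero_le (r * r), Nat.zero_le r]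

/-- A coprime power of two is recovered from the order. -/
theorem pow_two_unique {a b u v : ℕ} (hu : Odd u) (hv : Odd v) (e : 2 ^ a * u = 2 ^ b * v) :
    2 ^ a = 2 ^ b := by
  refine Nat.dvd_antisymm ?_ ?_
  · exact ((Nat.coprime_two_left.2 hv).pow_left a).dvd_of_dvd_mul_right (e ▸ dvd_mul_right _ _)
  · exact ((Nat.coprime_two_left.2 hu).pow_left b).dvd_of_dvd_mul_right (e ▸ dvd_mul_right _ _)

theorem exists_prime_part {w : X} (hw : w ≠ 1) : ∃ r : ℕ, r.Prime ∧ r ∣ orderOf w ∧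
    ∃ v : X, v ∈ zpowers w ∧ v ≠ 1 ∧ IsElt r v ∧ orderOf v = r := by
  obtain ⟨r, hr, hd⟩ := Nat.exists_prime_and_dvd (fun e => hw (orderOf_eq_one_iff.1 e))
  have ho : orderOf (w ^ (orderOf w / r)) = r := orderOf_pow_orderOf_div (orderOf_pos w).ne' hd
  refine ⟨r, hr, hd, _, pow_mem (mem_zpowers w) _, fun e => ?_, ⟨1, by rw [ho, pow_one]⟩, ho⟩
  rw [e, orderOf_one] at ho
  exact hr.ne_one ho.symm

/-- The four outcomes for a CN quotient. -/
def CNOrder (X : Type u) [Group X] : Prop :=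
  (∃ (K : Type) (_ : Field K) (_ : Fintype K),
    (Nat.card K = 9 ∨ (∃ n, 2 ≤ n ∧ Nat.card K = 2 ^ n) ∨
      (Odd (Nat.card K) ∧ (Nat.card K).Prime ∧ ∃ k : ℕ, Nat.card K = 2 ^ k + 1 ∨ Nat.card K + 1 = 2 ^ k)) ∧
    Nonempty (X ≃* Matrix.ProjectiveSpecialLinearGroup (Fin 2) K)) ∨
  Nat.card X = 20160 ∨ Nat.card X = 720 ∨
  ∃ m : ℕ, 1 ≤ m ∧
    Nat.card X = (2 ^ (2 * m + 1)) ^ 2 * ((2 ^ (2 * m + 1)) ^ 2 + 1) * (2 ^ (2 * m + 1) - 1)

namespace XHyp

variable {x y z d : ℕ} (h : XHyp X x y z d)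
include h

theorem prime_cases {r : ℕ} (hr : r.Prime) {v : X} (hv : r ∣ orderOf v) : r ∣ x ∨ r ∣ y ∨ r ∣ z := by
  have := hv.trans (orderOf_dvd_natCard v)
  rw [h.card_eq] at this
  rcases (Nat.Prime.dvd_mul hr).1 this with h1 | h1
  · rcases (Nat.Prime.dvd_mul hr).1 h1 with h2 | h2
    · exact Or.inl h2
    · exact Or.inr (Or.inl h2)
  · exact Or.inr (Or.inr h1)

theorem isCN (hy : ∀ (r : ℕ), r.Prime → r ∣ y → ∀ v : X, v ≠ 1 → IsElt r v →
    Group.IsNilpotent (cent v)) {w : X} (hw : w ≠ 1) : Group.IsNilpotent (cent w) := by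
  obtain ⟨r, hr, hd, v, hv, hv1, hvr, -⟩ := exists_prime_part hw
  haveI : Group.IsNilpotent (cent v) := by
    rcases h.prime_cases hr hd with h1 | h1 | h1
    · exact (h.cent_x r hr h1 v hv1 hvr).2
    · exact hy r hr h1 v hv1 hvr
    · exact (h.cent_z r hr h1 v hv1 hvr).2
  exact nilpotent_of_mulEquiv (Subgroup.subgroupOfEquivOfLe (cent_le_of_mem_zpowers hv))

theorem cnCases (hy : ∀ (r : ℕ), r.Prime → r ∣ y → ∀ v : X, v ≠ 1 → IsElt r v →
    Group.IsNilpotent (cent v)) : CNOrder X := by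
  have hCN : ∀ w : X, w ≠ 1 → Group.IsNilpotent (cent w) := fun w hw => h.isCN hy hw
  rcases S4351.result h.ns hCN with ⟨hs, hnc⟩ | ⟨N, -, hN2, K, iK, iK', hK, ⟨e⟩⟩ | ⟨N, hNn, hN, hNp, -⟩
  · haveI := hs
    have hab : ∃ a b : X, a * b ≠ b * a := by
      by_contra hc
      push Not at hc
      exact hnc ⟨⟨hc⟩⟩
    rcases S0337.result hab hCN with ⟨K, iK, iK', hK, he⟩ | ⟨K, iK, iK', hK, ⟨e⟩⟩ | ⟨-, hS⟩
    · left
      refine ⟨K, iK, iK', ?_, he⟩
      rw [← Nat.card_eq_fintype_card] at hK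
      have h1 : 1 < Nat.card K := Finite.one_lt_card
      obtain ⟨e⟩ := he
      have h2 : Nat.card K ≠ 2 := fun hc => by
        have h3 := Nat.card_congr e.toEquiv
        have h4 := card_psl_even (K := K) (hc ▸ even_two)
        rw [h.card_eq] at h3
        rw [hc, ← h3] at h4
        have := Nat.mul_le_mul (Nat.mul_le_mul h.hx h.hy) h.hz
        omega
      rcases hK with h9 | ⟨n, hn⟩ | ⟨hp, hk⟩
      · exact Or.inl h9
      · refine Or.inr (Or.inl ⟨n, ?_, hn⟩)
        match n, hn with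
        | 0, hn => rw [pow_zero] at hn; omega
        | 1, hn => exact absurd hn h2
        | n + 2, _ => omega
      · exact Or.inr (Or.inr ⟨hp.odd_of_ne_two h2, hp, hk⟩)
    · right; left
      rw [Nat.card_congr e.toEquiv, EPPO.card_pslThree_four hK]
    · exact Or.inr (Or.inr (Or.inr hS))
  · right; right; left
    have hK9 : Nat.card K = 9 := by rw [Nat.card_eq_fintype_card]; exact hK
    have h1 := card_psl_odd (K := K) (hK9 ▸ (by decide : Odd 9))
    rw [← Nat.card_congr e.toEquiv, hK9] at h1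
    rw [← N.card_mul_index, hN2]
    omega
  · exfalso
    haveI := Fact.mk Nat.prime_two
    haveI : Group.IsNilpotent N := hNp.isNilpotent
    exact hN (h.noSolv N hNn inferInstance)

end XHyp

theorem exists_psl_even {q : ℕ} {n : ℕ} (hq : q = 2 ^ n) (hn : 2 ≤ n)
    (h : XHyp X q (q - 1) (q + 1) 1) {F : Type*} [Field F] [Finite F] (hF : Nat.card F = q) :
    Nonempty (X ≃* Matrix.ProjectiveSpecialLinearGroup (Fin 2) F) := by
  haveI := Fintype.ofFinite F
  have h4 : 4 ≤ q := by rw [hq]; exact (show 2 ^ 2 ≤ 2 ^ n from Nat.pow_le_pow_right two_pos hn)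
  have hcard : Nat.card X + q = q ^ 3 := by
    rw [h.card_eq]
    obtain ⟨a, rfl⟩ : ∃ a, q = a + 1 := ⟨q - 1, by omega⟩
    rw [Nat.add_sub_cancel]
    ring
  rcases h.cnCases (fun r hr hry v hv hvr => h.nil_y rfl r hr hry v hv hvr) with
    ⟨K, iK, iK', hK, ⟨e⟩⟩ | e | e | ⟨m, hm, e⟩
  · have hXK := Nat.card_congr e.toEquiv
    rcases hK with h9 | ⟨k, hk, hK⟩ | ⟨hodd, -, k, hk⟩
    · exfalso
      have h1 := card_psl_odd (K := K) (h9 ▸ (by decide : Odd 9))
      rw [← hXK, h9] at h1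
      rcases Nat.lt_or_ge q 8 with h8 | h8
      · have : n < 3 := (Nat.pow_lt_pow_iff_right (by norm_num)).1 (hq ▸ h8)
        obtain rfl : n = 2 := by omega
        subst hq
        omega
      · nlinarith [Nat.pow_le_pow_left h8 3, Nat.mul_le_mul h8 h8]
    · have h1 := card_psl_even (K := K) (hK ▸ Nat.even_pow.2 ⟨even_two, by omega⟩)
      rw [← hXK] at h1
      have h2 : q = Nat.card K := cube_inj (by omega) Finite.card_pos (by omega)
      refine ⟨e.trans (Linear.pslMapEquiv (FiniteField.ringEquivOfCardEq ?_))⟩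
      rw [← Nat.card_eq_fintype_card, ← Nat.card_eq_fintype_card, hF, ← h2]
    · have h1 := card_psl_odd (K := K) hodd
      rw [← hXK] at h1
      obtain ⟨hq4, hK5⟩ := psl_mixed_arith (Q := Nat.card K) hq hn hk (by omega)
      obtain ⟨e1⟩ := Linear.nonempty_pslTwo_five (F := K) (by rw [← Nat.card_eq_fintype_card, hK5])
      obtain ⟨e2⟩ := PSL2.mulEquiv_alternatingFive_of_four (F := F) (hF.trans hq4)
      exact ⟨(e.trans e1).trans e2.symm⟩
  · exfalso
    rw [e] at hcard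
    rcases Nat.lt_or_ge n 5 with h5 | h5
    · have : q ≤ 16 := by rw [hq]; exact (show 2 ^ n ≤ 2 ^ 4 from Nat.pow_le_pow_right two_pos (by omega))
      nlinarith [Nat.pow_le_pow_left this 3]
    · have : 32 ≤ q := by rw [hq]; exact (show 2 ^ 5 ≤ 2 ^ n from Nat.pow_le_pow_right two_pos h5)
      nlinarith [Nat.pow_le_pow_left this 3, Nat.mul_le_mul this this]
  · exfalso
    rw [e] at hcard
    rcases Nat.lt_or_ge n 4 with h5 | h5
    · have : q ≤ 8 := by rw [hq]; exact (show 2 ^ n ≤ 2 ^ 3 from Nat.pow_le_pow_right two_pos (by omega))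
      nlinarith [Nat.pow_le_pow_left this 3]
    · have : 16 ≤ q := by rw [hq]; exact (show 2 ^ 4 ≤ 2 ^ n from Nat.pow_le_pow_right two_pos h5)
      nlinarith [Nat.pow_le_pow_left this 3, Nat.mul_le_mul this this]
  · exfalso
    rw [h.card_eq] at e
    set Q := 2 ^ (2 * m + 1) with hQ
    have hQ8 : 8 ≤ Q := by
      rw [hQ]; exact (show 2 ^ 3 ≤ 2 ^ (2 * m + 1) from Nat.pow_le_pow_right two_pos (by omega))
    have hQe : Even Q := by rw [hQ]; exact Nat.even_pow.2 ⟨even_two, by omega⟩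
    have hqe : Even q := by rw [hq]; exact Nat.even_pow.2 ⟨even_two, by omega⟩
    have h1 : q = Q ^ 2 := by
      rw [hq, hQ, ← pow_mul]
      refine pow_two_unique (u := (q - 1) * (q + 1)) (v := (Q ^ 2 + 1) * (Q - 1))
        ((Nat.Even.sub_odd (by omega) hqe odd_one).mul hqe.add_one)
        ((Nat.even_pow.2 ⟨hQe, two_ne_zero⟩).add_one.mul (Nat.Even.sub_odd (by omega) hQe odd_one)) ?_
      rw [← hq, pow_mul, ← hQ, ← mul_assoc, ← mul_assoc]
      exact e
    subst h1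
    obtain ⟨a, ha⟩ : ∃ a, Q = a + 1 := ⟨Q - 1, by omega⟩
    obtain ⟨b, hb⟩ : ∃ b, Q ^ 2 = b + 1 := ⟨Q ^ 2 - 1, by have := Nat.mul_le_mul hQ8 hQ8; rw [sq]; omega⟩
    rw [show Q - 1 = a by omega, show Q ^ 2 - 1 = b by omega] at e
    have hpos : 0 < Q ^ 2 * (Q ^ 2 + 1) := by positivity
    have : b = a := Nat.eq_of_mul_eq_mul_left hpos (by rw [← e]; ring)
    nlinarith

end Cfsg.Agent.PSLClassSizes
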