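import Cfsg.Agent.Lib.PSL2.Centralizers
import Cfsg.Agent.Lib.ThreeSizes.Basic

/-!
# `PSL(2,q)`: subgroups of prime power order

* `comm_char`: the centraliser of an element of order `p` is abelian
* `isPGroup_comm`: `r`-subgroups are abelian for odd `r`, and for `r = 2` if `q` is even
* `no_cover`: no element of order at least three centralises a Sylow 2-subgroup, `q` odd
-/

open Subgroup MulAction
open scoped commutatorElement

set_option autoImplicit false
set_option linter.unusedSectionVars false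

namespace Cfsg.Agent.PSLClassSizes

open PSL2

variable {F : Type*} [Field F] [Finite F]

local notation "φ" => (Matrix.ProjectiveSpecialLinearGroup.toPGL : PSL2 F →* PGL2 F)

theorem comm_char (p : ℕ) [Fact p.Prime] [CharP F p] {x a b : PSL2 F} (hx : orderOf x = p)
    (ha : a * x = x * a) (hb : b * x = x * b) : Commute a b := by
  have hx1 : φ x ≠ 1 := fun e => by
    rw [← map_one φ] at e
    rw [Matrix.ProjectiveSpecialLinearGroup.toPGL_injective e, orderOf_one] at hx
    exact (Fact.out : p.Prime).ne_one hx.symm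
  have hxp : φ x ^ p = 1 := by rw [← map_pow, orderOf_dvd_iff_pow_eq_one.1 hx.dvd, map_one]
  obtain ⟨P, hP⟩ := exists_fix_of_pow_char p (z := x) (orderOf_dvd_iff_pow_eq_one.1 hx.dvd)
  rw [← toPGL_smul] at hP
  obtain ⟨k, hk⟩ := exists_map_pinf P
  have hk' : k⁻¹ • (pinf : Pt F) = P := by rw [← hk, inv_smul_smul]
  obtain ⟨u, c, hac⟩ := exists_aff_of_fix (g := k * φ x * k⁻¹)
    (by rw [mul_smul, mul_smul, hk', hP, hk])
  have hu : u = 1 := (aff_pow_char_iff p).1 (by rw [← hac, conj_pow, hxp, mul_one, mul_inv_cancel])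
  subst hu
  have hc : c ≠ 0 := by
    rintro rfl
    rw [aff_one_zero, mul_inv_eq_one, mul_eq_left] at hac
    exact hx1 hac
  have key : ∀ z : PSL2 F, z * x = x * z → ∃ s : F, k * φ z * k⁻¹ = aff 1 s := by
    intro z hz
    have hzx : φ z * φ x = φ x * φ z := by rw [← map_mul, ← map_mul, hz]
    have hzP : φ z • P = P := eq_of_fix_pow_char p hx1 hxp
      (by rw [← mul_smul, ← hzx, mul_smul, hP]) hP
    obtain ⟨t, s, hab⟩ := exists_aff_of_fix (g := k * φ z * k⁻¹)
      (by rw [mul_smul, mul_smul, hk', hzP, hk])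
    have h : aff t s * aff 1 c = aff 1 c * aff t s := by
      rw [← hab, ← hac]
      calc k * φ z * k⁻¹ * (k * φ x * k⁻¹) = k * (φ z * φ x) * k⁻¹ := by group
        _ = k * (φ x * φ z) * k⁻¹ := by rw [hzx]
        _ = _ := by group
    rw [aff_mul_aff, aff_mul_aff, aff_inj] at h
    have ht : t = 1 := by
      apply Units.ext
      have h' := h.2
      rw [Units.val_one] at h' ⊢
      exact mul_right_cancel₀ hc (by linear_combination h')
    subst ht
    exact ⟨s, hab⟩
  obtain ⟨s, hs⟩ := key a ha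
  obtain ⟨t, ht⟩ := key b hb
  apply Matrix.ProjectiveSpecialLinearGroup.toPGL_injective (n := Fin 2) (R := F)
  rw [map_mul, map_mul]
  have : k * φ a * k⁻¹ * (k * φ b * k⁻¹) = k * φ b * k⁻¹ * (k * φ a * k⁻¹) := by
    rw [hs, ht, aff_mul_aff, aff_mul_aff, aff_inj]
    exact ⟨rfl, by simp [add_comm]⟩
  calc φ a * φ b = k⁻¹ * (k * φ a * k⁻¹ * (k * φ b * k⁻¹)) * k := by group
    _ = k⁻¹ * (k * φ b * k⁻¹ * (k * φ a * k⁻¹)) * k := by rw [this]
    _ = _ := by group

theorem isPGroup_comm {r : ℕ} [Fact r.Prime] (hr : r ≠ 2 ∨ Even (Nat.card F)) {R : Subgroup (PSL2 F)}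
    (hR : IsPGroup r R) {a b : PSL2 F} (ha : a ∈ R) (hb : b ∈ R) : Commute a b := by
  rcases subsingleton_or_nontrivial R with h | h
  · have := congrArg Subtype.val (h.elim (⟨a, ha⟩ : R) 1)
    simp only [OneMemClass.coe_one] at this
    rw [this]; exact Commute.one_left b
  haveI := hR.center_nontrivial
  obtain ⟨c, hc⟩ := exists_prime_orderOf_dvd_card' (G := center R) r (by
    obtain ⟨m, hm⟩ := IsPGroup.iff_card.1 (hR.to_subgroup (center R))
    rw [hm]
    refine dvd_pow_self r ?_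
    rintro rfl
    rw [pow_zero] at hm
    exact absurd hm Finite.one_lt_card.ne')
  set x : PSL2 F := ((c : R) : PSL2 F) with hx
  have hxo : orderOf x = r := by rw [hx, Subgroup.orderOf_coe, Subgroup.orderOf_coe, hc]
  have hcomm : ∀ g ∈ R, g * x = x * g := fun g hg =>
    congrArg Subtype.val (mem_center_iff.1 c.2 ⟨g, hg⟩)
  obtain ⟨p, hp⟩ := CharP.exists F
  have : Fact p.Prime := ⟨CharP.char_is_prime F p⟩
  by_cases hrp : r = p
  · exact comm_char p (hxo.trans hrp) (hcomm a ha) (hcomm b hb)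
  have hr3 : 3 ≤ r := by
    have := (Fact.out : r.Prime).two_le
    have : r ≠ 2 := by
      rcases hr with e | e
      · exact e
      · obtain ⟨n, -, -, ⟨hp2, -⟩ | ⟨-, ho, -⟩⟩ := PSL2.q_cases (F := F) p
        · omega
        · exact absurd e (Nat.not_even_iff_odd.2 ho)
    omega
  obtain ⟨y, -, hC, -⟩ := centralizer_torus p (x := x)
    (fun h => hrp ((Nat.prime_dvd_prime_iff_eq Fact.out Fact.out).1 (hxo ▸ h))) (hxo ▸ hr3)
  have key : ∀ g ∈ R, g ∈ zpowers y := fun g hg =>
    hC ▸ mem_centralizer_singleton_iff.2 (hcomm g hg)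
  obtain ⟨i, rfl⟩ := mem_zpowers_iff.1 (key a ha)
  obtain ⟨j, rfl⟩ := mem_zpowers_iff.1 (key b hb)
  exact Commute.zpow_zpow (Commute.refl y) i j

theorem no_cover (ho : Odd (Nat.card F)) (S : Sylow 2 (PSL2 F)) {w : PSL2 F} (hw : 3 ≤ orderOf w) :
    ¬ (S : Subgroup (PSL2 F)) ≤ centralizer ({w} : Set (PSL2 F)) := by
  intro hle
  haveI := Fact.mk Nat.prime_two
  obtain ⟨p, hp⟩ := CharP.exists F
  have : Fact p.Prime := ⟨CharP.char_is_prime F p⟩
  obtain ⟨n, hn, hq, ⟨-, he, -⟩ | ⟨hp2, -, hd, -⟩⟩ := PSL2.q_cases (F := F) p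
  · exact absurd he (Nat.not_even_iff_odd.2 ho)
  have hcard := card_psl_mul (F := F)
  rw [hd] at hcard
  have hodd := Nat.odd_iff.1 ho
  have hidx := S.not_dvd_index
  have hmul := (S : Subgroup (PSL2 F)).card_mul_index
  rw [← hmul] at hcard
  by_cases hwp : orderOf w ∣ p
  · have e : orderOf w = p := ((Fact.out : p.Prime).eq_one_or_self_of_dvd _ hwp).resolve_left (by omega)
    have hd' := card_dvd_of_le hle
    rw [card_centralizer_char p e] at hd'
    have h2 : 2 ∣ Nat.card (S : Subgroup (PSL2 F)) := by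
      refine S.dvd_card_of_dvd_card ?_
      obtain ⟨b, hb⟩ := exists_psl_orderOf (F := F) p (m := 2) (Or.inr (by rw [hd]; omega))
      exact hb ▸ orderOf_dvd_natCard b
    have := h2.trans hd'
    omega
  obtain ⟨y, -, hC, hy⟩ := centralizer_torus p hwp hw
  rw [hC] at hle
  have hd' := card_dvd_of_le hle
  rw [Nat.card_zpowers] at hd'
  rw [hd] at hy
  obtain ⟨a, ha⟩ : ∃ a, Nat.card F = 2 * a + 1 := ⟨Nat.card F / 2, by omega⟩
  rw [ha] at hy hcard
  refine hidx ?_
  obtain ⟨m, hm⟩ := hd'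
  have hs : 0 < Nat.card (S : Subgroup (PSL2 F)) := Nat.card_pos
  rcases hy with e | e
  · have e' : Nat.card (S : Subgroup (PSL2 F)) * m = a := by rw [← hm, e]; omega
    refine ⟨m * ((2 * a + 1) * (a + 1)), Nat.eq_of_mul_eq_mul_left hs ?_⟩
    rw [Nat.add_sub_cancel] at hcard
    refine Nat.eq_of_mul_eq_mul_left two_pos ?_
    rw [hcard, ← e']; ring
  · have e' : Nat.card (S : Subgroup (PSL2 F)) * m = a + 1 := by rw [← hm, e]; omega
    refine ⟨m * ((2 * a + 1) * a), Nat.eq_of_mul_eq_mul_left hs ?_⟩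
    rw [Nat.add_sub_cancel] at hcard
    refine Nat.eq_of_mul_eq_mul_left two_pos ?_
    rw [hcard, show 2 * (Nat.card (S : Subgroup (PSL2 F)) * (2 * (m * ((2 * a + 1) * a)))) =
      2 * (2 * ((Nat.card (S : Subgroup (PSL2 F)) * m) * ((2 * a + 1) * a))) by ring, e']
    ring

end Cfsg.Agent.PSLClassSizes
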