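import Cfsg.Agent.EqLemmas
import Cfsg.Agent.Lib.ThreeSizes.Basic
import Cfsg.Agent.S4387

/-!
# Class sizes of `PSL(2,q)`: the order of the central quotient

The sizes are `1, y z, x z, x y` (and `2 x z` for odd `q`), with `x, y, z` pairwise coprime
(`x = q`; for odd `q ≡ ε mod 4`: `y = q - ε`, `z = (q + ε) / 2`; for even `q`: `y = q - 1`, `z = q + 1`).

* `Hyp.index_center`: the centre has index `x y z`
* `Hyp.dichotomy`: the centraliser of a primary element of isolated index
-/

open Subgroup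
open scoped commutatorElement Pointwise

set_option autoImplicit false
set_option linter.unusedSectionVars false

namespace Cfsg.Agent.PSLClassSizes

open ThreeSizes

variable {G : Type*} [Group G] [Finite G]

/-- centralizer of one element -/
local notation "cent" x:max => Subgroup.centralizer ({x} : Set _)

/-- the class size of an element -/
local notation "ix" g:max => Subgroup.index (Subgroup.centralizer ({g} : Set _))

/-- The hypothesis on the class sizes. -/
structure Hyp (G : Type*) [Group G] (x y z d : ℕ) : Prop where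
  hx : 3 ≤ x
  hy : 3 ≤ y
  hz : 3 ≤ z
  cxy : x.Coprime y
  cxz : x.Coprime z
  cyz : y.Coprime z
  hd : d = 1 ∨ (d = 2 ∧ 4 ∣ y)
  mem : ∀ g : G, ix g = 1 ∨ ix g = y * z ∨ ix g = x * y ∨ ix g = x * z ∨ ix g = d * (x * z)
  hA : ∃ g : G, ix g = y * z
  hB : ∃ g : G, ix g = x * z
  hC : ∃ g : G, ix g = x * y
  lt_x : x < y * z
  lt_y : y < x * z
  lt_z : z < x * y

/-- A class size without proper multiples and non-trivial proper divisors among the class sizes. -/
def IsolatedSize (G : Type*) [Group G] (m : ℕ) : Prop :=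
  1 < m ∧ ∀ g : G, (m ∣ ix g → ix g = m) ∧ (ix g ∣ m → ix g = 1 ∨ ix g = m)

theorem cent_eq_of_le {a b : G} {m : ℕ} (hm : IsolatedSize G m) (ha : ix a = m) (h : cent a ≤ cent b)
    (hb : b ∉ center G) : cent b = cent a := by
  have hdvd := Subgroup.index_dvd_of_le h
  rw [ha] at hdvd
  rcases (hm.2 b).2 hdvd with e | e
  · exact absurd (index_eq_one_iff.1 e) hb
  · refine (eq_of_le_of_card_ge h ?_).symm
    have h1 := (cent a).card_mul_index
    have h2 := (cent b).card_mul_index
    rw [ha] at h1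
    rw [e, ← h1] at h2
    exact (Nat.eq_of_mul_eq_mul_right (by have := hm.1; omega) h2).le

theorem exists_primary_of_size {g : G} {m : ℕ} (hm : IsolatedSize G m) (hg : ix g = m) :
    ∃ t : ℕ, t.Prime ∧ ∃ y0 ∈ zpowers g, IsElt t y0 ∧ ix y0 = m := by
  have hgc : g ∉ center G := fun h => by
    rw [index_eq_one_iff.2 h] at hg; exact absurd hg (ne_of_lt hm.1)
  obtain ⟨t, ht, y0, hy0, hy0c, hy0t⟩ := exists_primary hgc
  refine ⟨t, ht, y0, hy0, hy0t, ?_⟩
  rw [cent_eq_of_le hm hg (cent_le_of_mem_zpowers hy0) hy0c, hg]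

theorem le_cent_of_coprime {t : ℕ} (ht : t.Prime) {y0 w : G} {m : ℕ} (hm : IsolatedSize G m)
    (hy : IsElt t y0) (hi : ix y0 = m) (hw : w ∈ cent y0) (hwt : ¬ t ∣ orderOf w) :
    cent y0 ≤ cent w := by
  have hc : Commute y0 w := (mem_cent.1 hw).symm
  have h1 := cent_mul hc (IsElt.coprime_order ht hy hwt)
  have h2 : cent (y0 * w) ≤ cent y0 := h1 ▸ inf_le_left
  have hdvd : m ∣ ix (y0 * w) := hi ▸ Subgroup.index_dvd_of_le h2
  have h3 : cent (y0 * w) = cent y0 := by
    refine eq_of_le_of_card_ge h2 ?_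
    have e := (hm.2 _).1 hdvd
    have h4 := (cent (y0 * w)).card_mul_index
    have h5 := (cent y0).card_mul_index
    rw [e] at h4
    rw [hi, ← h4] at h5
    exact (Nat.eq_of_mul_eq_mul_right (by have := hm.1; omega) h5).le
  rw [← h3, h1]
  exact inf_le_right

/-- The centraliser of a primary element of isolated index. -/
theorem dichotomy {t : ℕ} (ht : t.Prime) {y0 : G} {m : ℕ} (hm : IsolatedSize G m)
    (hy : IsElt t y0) (hi : ix y0 = m) :
    (∀ a ∈ cent y0, ∀ b ∈ cent y0, Commute a b) ∨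
      ∀ w ∈ cent y0, ¬ t ∣ orderOf w → w ∈ center G := by
  by_cases hne : ∀ w ∈ cent y0, ¬ t ∣ orderOf w → w ∈ center G
  · exact Or.inr hne
  left
  push Not at hne
  obtain ⟨w, hw, hwt, hwc⟩ := hne
  obtain ⟨t2, ht2, w0, hw0, hw0c, hw0t⟩ := exists_primary hwc
  have hw0' : ¬ t ∣ orderOf w0 := fun h => hwt (h.trans (orderOf_dvd_of_mem_zpowers hw0))
  have htne : t ≠ t2 := by
    rintro rfl
    obtain ⟨k, hk⟩ := hw0t
    rcases k with _ | k
    · rw [pow_zero, orderOf_eq_one_iff] at hk
      exact hw0c (hk ▸ one_mem _)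
    · exact hw0' (hk ▸ dvd_pow_self t (Nat.succ_ne_zero k))
  have hw0m : w0 ∈ cent y0 := (zpowers_le.2 hw) hw0
  have hle := le_cent_of_coprime ht hm hy hi hw0m hw0'
  have heq : cent w0 = cent y0 := cent_eq_of_le hm hi hle hw0c
  have hall : ∀ a ∈ cent y0, cent y0 ≤ cent a := by
    intro a ha
    obtain ⟨u, v, hg, hc, hu, hv, hut, hvt⟩ := exists_parts ht a
    have huC : u ∈ cent y0 := (zpowers_le.2 ha) hu
    have hvC : v ∈ cent y0 := (zpowers_le.2 ha) hv
    have h1 := le_cent_of_coprime ht hm hy hi hvC hvt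
    have h2 : cent w0 ≤ cent u :=
      le_cent_of_coprime ht2 hm hw0t (by rw [heq, hi]) (by rw [heq]; exact huC)
        (IsElt.not_dvd ht ht2 htne hut)
    rw [heq] at h2
    intro g hgm
    rw [mem_cent, hg]
    exact (Commute.mul_right (mem_cent.1 (h2 hgm)) (mem_cent.1 (h1 hgm))).eq
  intro a ha b hb
  exact mem_cent.1 (hall b hb ha)

theorem factorization_lt {r : ℕ} (hr : r.Prime) {v : G} (hv : v ∉ center G) (hvr : IsElt r v)
    {H : Subgroup G} (hZ : center G ≤ H) (hvH : v ∈ H) :
    H.index.factorization r < (center G).index.factorization r := by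
  haveI := Fact.mk hr
  have h := (Nat.pow_lt_pow_iff_right hr.one_lt).1 (cp_center_lt hv hvr hZ hvH)
  have h1 := factorization_add r H
  have h2 := factorization_add r (center G)
  omega

theorem exists_noncentral' {r : ℕ} (hr : r.Prime) {H : Subgroup G}
    (h : H.index.factorization r < (center G).index.factorization r) :
    ∃ v ∈ H, v ∉ center G ∧ IsElt r v := by
  haveI := Fact.mk hr
  refine exists_noncentral ((Nat.pow_lt_pow_iff_right hr.one_lt).2 ?_)
  have h1 := factorization_add r H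
  have h2 := factorization_add r (center G)
  omega

theorem exists_conj_le_cent {r : ℕ} [Fact r.Prime] (R : Sylow r G) {g : G} (hg : ¬ r ∣ ix g) :
    ∃ a : G, (R : Subgroup G) ≤ cent (a * g * a⁻¹) := by
  have hcp := cp_eq_top_iff.2 hg
  obtain ⟨U, hU, hUp, hUc⟩ := exists_le_card_cp r (cent g)
  obtain ⟨Q, hQ⟩ := hUp.exists_le_sylow
  have hUQ : U = (Q : Subgroup G) := by
    refine eq_of_le_of_card_ge hQ (le_of_eq ?_)
    rw [hUc, hcp]; exact card_sylow Q
  obtain ⟨a, ha⟩ := MulAction.exists_smul_eq G Q R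
  refine ⟨a, fun b hb => ?_⟩
  have hb' : b ∈ MulAut.conj a • (Q : Subgroup G) := by
    rw [← Sylow.coe_subgroup_smul, ← ha] at *
    exact hb
  rw [Subgroup.mem_pointwise_smul_iff_inv_smul_mem, ← map_inv, MulAut.smul_def, MulAut.conj_apply,
    inv_inv, ← hUQ] at hb'
  rw [cent_conj, Subgroup.map_equiv_eq_comap_symm', Subgroup.mem_comap]
  simpa using hU hb'

/-- A prime dividing no class size does not divide the index of the centre. -/
theorem not_dvd_of_not_dvd_size {r : ℕ} (hr : r.Prime) (h : ∀ g : G, ¬ r ∣ ix g) :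
    ¬ r ∣ (center G).index := by
  haveI := Fact.mk hr
  obtain ⟨R⟩ : Nonempty (Sylow r G) := inferInstance
  by_cases htop : centralizer ((R : Subgroup G) : Set G) = ⊤
  · have hle : (R : Subgroup G) ≤ center G := by
      intro b hb
      rw [mem_center_iff]
      intro g
      have hg : g ∈ centralizer ((R : Subgroup G) : Set G) := htop ▸ mem_top g
      exact (mem_centralizer_iff.1 hg b hb).symm
    exact fun hd => R.not_dvd_index (hd.trans (Subgroup.index_dvd_of_le hle))
  · refine absurd (fun g => ?_) (S4387.union_conj_ne_univ _ htop)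
    obtain ⟨a, ha⟩ := exists_conj_le_cent R (h g)
    refine ⟨a⁻¹, ?_⟩
    rw [Subgroup.mem_pointwise_smul_iff_inv_smul_mem, ← map_inv, inv_inv, MulAut.smul_def,
      MulAut.conj_apply, mem_centralizer_iff]
    exact fun b hb => (mem_cent.1 (ha hb))

/-- The main counting step. -/
theorem no_excess {r s m f : ℕ} (hr : r.Prime) (hs : s.Prime) (hrs : r ≠ s) (hm : IsolatedSize G m)
    (hgm : ∃ g : G, ix g = m) (hf : ∃ g : G, ix g = f) (hrf : ¬ r ∣ f) (hfm : f ≠ m) (hf1 : f ≠ 1)
    (hsm : ¬ s ∣ m) (hsN : s ∣ (center G).index) :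
    ¬ m.factorization r < (center G).index.factorization r := by
  intro hlt
  haveI := Fact.mk hr
  obtain ⟨g, hg⟩ := hgm
  obtain ⟨t, ht, y0, -, hy0, hi⟩ := exists_primary_of_size hm hg
  rw [← hi] at hlt
  obtain ⟨w, hwC, hwc, hwr⟩ := exists_noncentral' hr hlt
  rcases dichotomy ht hm hy0 hi with hab | hcen
  · have hle : cent y0 ≤ cent w := fun a ha => mem_cent.2 (hab a ha w hwC).eq
    have heq : cent w = cent y0 := cent_eq_of_le hm hi hle hwc
    obtain ⟨Q, hQ⟩ := (isPGroup_zpowers hwr).exists_le_sylow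
    obtain ⟨z, hz⟩ := hf
    obtain ⟨a, ha⟩ := exists_conj_le_cent Q (g := z) (by rw [hz]; exact hrf)
    have h1 : a * z * a⁻¹ ∈ cent w := mem_cent_symm (ha (hQ (mem_zpowers w)))
    rw [heq] at h1
    have h2 : cent y0 ≤ cent (a * z * a⁻¹) := fun b hb => mem_cent.2 (hab b hb _ h1).eq
    have h3 := Subgroup.index_dvd_of_le h2
    rw [hi] at h3
    rcases (hm.2 _).2 h3 with e | e <;> rw [index_conj, hz] at e
    · exact hf1 e
    · exact hfm e
  · rcases eq_or_ne r t with rfl | hrt
    · have h0 : (cent y0).index.factorization s < (center G).index.factorization s := by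
        rw [hi, Nat.factorization_eq_zero_of_not_dvd hsm]
        exact hs.factorization_pos_of_dvd index_ne_zero_of_finite hsN
      obtain ⟨v, hvC, hvc, hvs⟩ := exists_noncentral' hs h0
      exact hvc (hcen v hvC (IsElt.not_dvd hs hr hrs.symm hvs))
    · exact hwc (hcen w hwC (IsElt.not_dvd hr ht hrt hwr))

namespace Hyp

variable {x y z d : ℕ} (h : Hyp G x y z d)
include h

theorem d_pos : 0 < d := by rcases h.hd with e | ⟨e, -⟩ <;> omega

theorem d_dvd_y : d ∣ y := by
  rcases h.hd with e | ⟨e, h4⟩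
  · rw [e]; exact one_dvd _
  · rw [e]; exact (by norm_num : 2 ∣ 4).trans h4

theorem not_y_dvd_d : ¬ y ∣ d := fun hd => by
  have := Nat.le_of_dvd h.d_pos hd
  have := h.hy
  rcases h.hd with e | ⟨e, -⟩ <;> omega

theorem isolated_yz : IsolatedSize G (y * z) := by
  have hx := h.hx; have hy := h.hy; have hz := h.hz
  refine ⟨by nlinarith, fun g => ⟨fun hm => ?_, fun hm => ?_⟩⟩
  · rcases h.mem g with e | e | e | e | e <;> rw [e] at hm ⊢
    · nlinarith [Nat.le_of_dvd one_pos hm]
    · have := Nat.eq_one_of_dvd_coprimes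
        (Nat.Coprime.mul_right h.cxz.symm h.cyz.symm) (dvd_refl z) ((dvd_mul_left z y).trans hm)
      omega
    · have := Nat.eq_one_of_dvd_coprimes
        (Nat.Coprime.mul_right h.cxy.symm h.cyz) (dvd_refl y) ((dvd_mul_right y z).trans hm)
      omega
    · exact absurd ((Nat.Coprime.mul_right h.cxy.symm h.cyz).dvd_of_dvd_mul_right
        ((dvd_mul_right y z).trans hm)) h.not_y_dvd_d
  · rcases h.mem g with e | e | e | e | e <;> rw [e] at hm ⊢
    · exact Or.inl rfl
    · exact Or.inr rfl
    all_goals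
      exfalso
      have := Nat.eq_one_of_dvd_coprimes (Nat.Coprime.mul_right h.cxy h.cxz) (dvd_refl x)
        (Dvd.dvd.trans (by first
          | exact dvd_mul_right _ _
          | exact dvd_mul_of_dvd_right (dvd_mul_right _ _) _) hm)
      omega

theorem isolated_xy : IsolatedSize G (x * y) := by
  have hx := h.hx; have hy := h.hy; have hz := h.hz
  refine ⟨by nlinarith, fun g => ⟨fun hm => ?_, fun hm => ?_⟩⟩
  · rcases h.mem g with e | e | e | e | e <;> rw [e] at hm ⊢
    · nlinarith [Nat.le_of_dvd one_pos hm]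
    · have := Nat.eq_one_of_dvd_coprimes
        (Nat.Coprime.mul_right h.cxy h.cxz) (dvd_refl x) ((dvd_mul_right x y).trans hm)
      omega
    · have := Nat.eq_one_of_dvd_coprimes
        (Nat.Coprime.mul_right h.cxy.symm h.cyz) (dvd_refl y) ((dvd_mul_left y x).trans hm)
      omega
    · exact absurd ((Nat.Coprime.mul_right h.cxy.symm h.cyz).dvd_of_dvd_mul_right
        ((dvd_mul_left y x).trans hm)) h.not_y_dvd_d
  · rcases h.mem g with e | e | e | e | e <;> rw [e] at hm ⊢
    · exact Or.inl rfl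
    · exfalso
      have := Nat.eq_one_of_dvd_coprimes (Nat.Coprime.mul_right h.cxz.symm h.cyz.symm) (dvd_refl z)
        ((dvd_mul_left z y).trans hm)
      omega
    · exact Or.inr rfl
    all_goals
      exfalso
      have := Nat.eq_one_of_dvd_coprimes (Nat.Coprime.mul_right h.cxz.symm h.cyz.symm) (dvd_refl z)
        (Dvd.dvd.trans (by first
          | exact dvd_mul_left _ _
          | exact dvd_mul_of_dvd_right (dvd_mul_left _ _) _) hm)
      omega

theorem isolated_xz (hd1 : d = 1) : IsolatedSize G (x * z) := by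
  have hx := h.hx; have hy := h.hy; have hz := h.hz
  refine ⟨by nlinarith, fun g => ⟨fun hm => ?_, fun hm => ?_⟩⟩
  · rcases h.mem g with e | e | e | e | e <;> rw [e] at hm ⊢
    · nlinarith [Nat.le_of_dvd one_pos hm]
    · have := Nat.eq_one_of_dvd_coprimes
        (Nat.Coprime.mul_right h.cxy h.cxz) (dvd_refl x) ((dvd_mul_right x z).trans hm)
      omega
    · have := Nat.eq_one_of_dvd_coprimes
        (Nat.Coprime.mul_right h.cxz.symm h.cyz.symm) (dvd_refl z) ((dvd_mul_left z x).trans hm)
      omega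
    · rw [hd1, one_mul]
  · rcases h.mem g with e | e | e | e | e <;> rw [e] at hm ⊢
    · exact Or.inl rfl
    · exfalso
      have := Nat.eq_one_of_dvd_coprimes (Nat.Coprime.mul_right h.cxy.symm h.cyz) (dvd_refl y)
        ((dvd_mul_right y z).trans hm)
      omega
    · exfalso
      have := Nat.eq_one_of_dvd_coprimes (Nat.Coprime.mul_right h.cxy.symm h.cyz) (dvd_refl y)
        ((dvd_mul_left y x).trans hm)
      omega
    · exact Or.inr rfl
    · exact Or.inr (by rw [hd1, one_mul])

theorem dvd_index_center : x * y * z ∣ (center G).index := by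
  obtain ⟨a, ha⟩ := h.hA
  obtain ⟨b, hb⟩ := h.hB
  have h1 : y * z ∣ (center G).index := ha ▸ Subgroup.index_dvd_of_le (center_le_cent a)
  have h2 : x * z ∣ (center G).index := hb ▸ Subgroup.index_dvd_of_le (center_le_cent b)
  rw [mul_assoc]
  exact (Nat.Coprime.mul_right h.cxy h.cxz).mul_dvd_of_dvd_of_dvd ((dvd_mul_right x z).trans h2) h1

theorem index_center : (center G).index = x * y * z := by
  have hx := h.hx; have hy := h.hy; have hz := h.hz
  have hxyz : x * y * z ≠ 0 := by positivity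
  refine Nat.dvd_antisymm ((Nat.factorization_le_iff_dvd index_ne_zero_of_finite hxyz).1 fun r => ?_)
    h.dvd_index_center
  by_cases hr : r.Prime
  swap
  · simp [Nat.factorization_eq_zero_of_not_prime _ hr]
  by_cases hrd : r ∣ x * y * z
  swap
  · rw [Nat.factorization_eq_zero_of_not_dvd (not_dvd_of_not_dvd_size hr fun g hd => hrd ?_)]
    · exact Nat.zero_le _
    rcases h.mem g with e | e | e | e | e <;> rw [e] at hd
    · exact absurd hd hr.not_dvd_one
    · exact hd.trans ⟨x, by ring⟩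
    · exact hd.trans ⟨z, by ring⟩
    · exact hd.trans ⟨y, by ring⟩
    · exact hd.trans ((mul_dvd_mul_right h.d_dvd_y _).trans (dvd_of_eq (by ring)))
  have hdN := h.dvd_index_center
  have hnd : ∀ {a b : ℕ}, a.Coprime b → r ∣ a → ¬ r ∣ b := fun hc ha hb =>
    hr.ne_one (Nat.eq_one_of_dvd_coprimes hc ha hb)
  have hkey : ∀ (m : ℕ) (a : ℕ), m ≠ 0 → x * y * z = a * m → ¬ r ∣ a →
      m.factorization r = (x * y * z).factorization r := fun m a hm0 e ha => by
    have ha0 : a ≠ 0 := fun e0 => by rw [e0, zero_mul] at e; exact hxyz e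
    rw [e, Nat.factorization_mul ha0 hm0]
    simp [Nat.factorization_eq_zero_of_not_dvd ha]
  obtain ⟨sx, hsx, hsxd⟩ := Nat.exists_prime_and_dvd (show x ≠ 1 by omega)
  obtain ⟨sz, hsz, hszd⟩ := Nat.exists_prime_and_dvd (show z ≠ 1 by omega)
  have hsxn : ¬ sx ∣ y * z := fun hd =>
    hsx.ne_one (Nat.eq_one_of_dvd_coprimes (h.cxy.mul_right h.cxz) hsxd hd)
  have hszn : ¬ sz ∣ x * y := fun hd =>
    hsz.ne_one (Nat.eq_one_of_dvd_coprimes (h.cxz.symm.mul_right h.cyz.symm) hszd hd)
  have hne : y * z ≠ x * y := fun e => hsxn (e ▸ hsxd.trans (dvd_mul_right x y))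
  have hne' : x * z ≠ y * z := fun e => hsxn (e ▸ hsxd.trans (dvd_mul_right x z))
  rcases (Nat.Prime.dvd_mul hr).1 hrd with hxy | hrz
  · rcases (Nat.Prime.dvd_mul hr).1 hxy with hrx | hry
    · have hsr : r ≠ sz := fun e => hnd h.cxz hrx (e ▸ hszd)
      have := no_excess (G := G) (r := r) hr hsz hsr h.isolated_xy h.hC h.hA
        (fun hd => hr.ne_one (Nat.eq_one_of_dvd_coprimes (h.cxy.mul_right h.cxz) hrx hd)) hne
        (by nlinarith) hszn (hszd.trans ((dvd_mul_left z (x * y)).trans hdN))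
      rw [← hkey (x * y) z (by positivity) (by ring) (hnd h.cxz hrx)]
      omega
    · have hsr : r ≠ sx := fun e => hnd h.cxy.symm hry (e ▸ hsxd)
      have := no_excess (G := G) (r := r) hr hsx hsr h.isolated_yz h.hA h.hB
        (fun hd => hr.ne_one (Nat.eq_one_of_dvd_coprimes (h.cxy.symm.mul_right h.cyz) hry hd)) hne'
        (by nlinarith) hsxn (hsxd.trans ((dvd_mul_of_dvd_left (dvd_mul_right x y) z).trans hdN))
      rw [← hkey (y * z) x (by positivity) (by ring) (hnd h.cxy.symm hry)]
      omega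
  · have hsr : r ≠ sx := fun e => hnd h.cxz.symm hrz (e ▸ hsxd)
    have := no_excess (G := G) (r := r) hr hsx hsr h.isolated_yz h.hA h.hC
      (fun hd => hr.ne_one (Nat.eq_one_of_dvd_coprimes (h.cxz.symm.mul_right h.cyz.symm) hrz hd))
      hne.symm (by nlinarith) hsxn (hsxd.trans ((dvd_mul_of_dvd_left (dvd_mul_right x y) z).trans hdN))
    rw [← hkey (y * z) x (by positivity) (by ring) (hnd h.cxz.symm hrz)]
    omega

end Hyp

end Cfsg.Agent.PSLClassSizes
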