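import Cfsg.Agent.EqLemmas
import Mathlib

/-!
# Subgroups meeting a subgroup in index at most two

* `Half H C`: `H ∩ C` has index at most 2 in `H`, as a rule for products
* `comm_unique`: if all centralisers have index at most two, there is at most one non-trivial commutator
-/

open Subgroup
open scoped commutatorElement

set_option autoImplicit false
set_option linter.unusedSectionVars false

namespace Cfsg.Agent.PSLClassSizes

variable {G : Type*} [Group G]

/-- `H ∩ C` has index at most two in `H`. -/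
def Half (H C : Subgroup G) : Prop := ∀ a ∈ H, ∀ b ∈ H, (a * b ∈ C ↔ (a ∈ C ↔ b ∈ C))

theorem half_of_card [Finite G] {H C : Subgroup G} (h : Nat.card H ≤ 2 * Nat.card ↥(H ⊓ C)) :
    Half H C := by
  intro a ha b hb
  have hmem : ∀ x : H, x ∈ (H ⊓ C).subgroupOf H ↔ (x : G) ∈ C := fun x => by
    rw [mem_subgroupOf, Subgroup.mem_inf]; exact and_iff_right x.2
  have hc : Nat.card ↥((H ⊓ C).subgroupOf H) = Nat.card ↥(H ⊓ C) :=
    Nat.card_congr (subgroupOfEquivOfLe inf_le_left).toEquiv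
  have hmul := ((H ⊓ C).subgroupOf H).card_mul_index
  rw [hc] at hmul
  have hi : ((H ⊓ C).subgroupOf H).index ≤ 2 := by
    have hpos : 0 < Nat.card ↥(H ⊓ C) := Nat.card_pos
    by_contra hc
    push Not at hc
    nlinarith [Nat.mul_le_mul_left (Nat.card ↥(H ⊓ C)) hc]
  have hi0 : ((H ⊓ C).subgroupOf H).index ≠ 0 := index_ne_zero_of_finite
  rcases (show ((H ⊓ C).subgroupOf H).index = 1 ∨ ((H ⊓ C).subgroupOf H).index = 2 by omega) with e | e
  · have htop := Subgroup.index_eq_one.1 e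
    have hall : ∀ x ∈ H, x ∈ C := fun x hx => (hmem ⟨x, hx⟩).1 (htop ▸ mem_top _)
    simp [hall a ha, hall b hb, hall (a * b) (mul_mem ha hb)]
  · have := Subgroup.mul_mem_iff_of_index_two e (a := (⟨a, ha⟩ : H)) (b := ⟨b, hb⟩)
    rw [hmem, hmem, hmem] at this
    exact this

theorem card_le_of_half [Finite G] {H C : Subgroup G} (h : Half H C) :
    Nat.card H ≤ 2 * Nat.card ↥(H ⊓ C) := by
  classical
  by_cases hall : ∀ a ∈ H, a ∈ C
  · rw [inf_eq_left.2 hall]; omega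
  push Not at hall
  obtain ⟨a, ha, haC⟩ := hall
  let f : H → ↥(H ⊓ C) × Bool := fun x =>
    if hx : (x : G) ∈ C then (⟨x, x.2, hx⟩, true)
    else (⟨a * x, mul_mem ha x.2, (h a ha x x.2).2 (iff_of_false haC hx)⟩, false)
  have hf : Function.Injective f := by
    intro x y e
    by_cases hx : (x : G) ∈ C <;> by_cases hy : (y : G) ∈ C <;> simp [f, hx, hy] at e
    · exact Subtype.ext (congrArg Subtype.val e :)
    · exact Subtype.ext (mul_left_cancel (congrArg Subtype.val e :))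
  refine (Nat.card_le_card_of_injective f hf).trans ?_
  rw [Nat.card_prod, Nat.card_eq_fintype_card (α := Bool), Fintype.card_bool, mul_comm]

theorem Half.inv {H C : Subgroup G} {a : G} (ha : a ∉ C) : a⁻¹ ∉ C :=
  fun e => ha (inv_mem_iff.1 e)

theorem Half.comm_mem {H C : Subgroup G} (h : Half H C) {a b : G} (ha : a ∈ H) (hb : b ∈ H) :
    ⁅a, b⁆ ∈ C := by
  rw [commutatorElement_def, mul_assoc, mul_assoc,
    h a ha _ (mul_mem hb (mul_mem (inv_mem ha) (inv_mem hb))),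
    h b hb _ (mul_mem (inv_mem ha) (inv_mem hb)), h _ (inv_mem ha) _ (inv_mem hb), inv_mem_iff, inv_mem_iff]
  tauto

theorem Half.conj_mem {H C : Subgroup G} (h : Half H C) {a b : G} (ha : a ∈ H) (hb : b ∈ H)
    (hbC : b ∈ C) : a * b * a⁻¹ ∈ C := by
  rw [show a * b * a⁻¹ = ⁅a, b⁆ * b by rw [commutatorElement_def]; group]
  exact mul_mem (h.comm_mem ha hb) hbC

/-- centralizer of one element -/
local notation "cent" x:max => Subgroup.centralizer ({x} : Set _)

section comm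

variable {H : Subgroup G} (hH : ∀ w ∈ H, Half H (cent w))
include hH

theorem comm_central {a b : G} (ha : a ∈ H) (hb : b ∈ H) {w : G} (hw : w ∈ H) :
    Commute ⁅a, b⁆ w :=
  mem_centralizer_singleton_iff.1 ((hH w hw).comm_mem ha hb)

theorem comm_sq {a b : G} (ha : a ∈ H) (hb : b ∈ H) : ⁅a, b⁆ * ⁅a, b⁆ = 1 := by
  set c := ⁅a, b⁆ with hc
  have hac : Commute c a := comm_central hH ha hb ha
  have hab : a * b * a⁻¹ = c * b := by rw [hc, commutatorElement_def]; group
  have h2 : a * a ∈ cent b := (hH b hb a ha a ha).2 Iff.rfl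
  have h3 : a * a * b * (a * a)⁻¹ = b := by
    rw [mem_centralizer_singleton_iff.1 h2]; group
  have h4 : a * a * b * (a * a)⁻¹ = c * c * b := by
    calc a * a * b * (a * a)⁻¹ = a * (a * b * a⁻¹) * a⁻¹ := by group
      _ = a * (c * b) * a⁻¹ := by rw [hab]
      _ = (a * c) * b * a⁻¹ := by group
      _ = (c * a) * b * a⁻¹ := by rw [hac.eq]
      _ = c * (a * b * a⁻¹) := by group
      _ = c * c * b := by rw [hab]; group
  rw [h3, eq_comm, mul_eq_right] at h4
  exact h4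

theorem comm_symm {a b : G} (ha : a ∈ H) (hb : b ∈ H) : ⁅b, a⁆ = ⁅a, b⁆ := by
  rw [← commutatorElement_inv]
  exact inv_eq_of_mul_eq_one_right (comm_sq hH ha hb)

theorem comm_eq_left {g g' a : G} (hg : g ∈ H) (hg' : g' ∈ H) (ha : a ∈ H) (h : g ∉ cent a)
    (h' : g' ∉ cent a) : ⁅g, a⁆ = ⁅g', a⁆ := by
  have h1 : g⁻¹ * g' ∈ cent a :=
    (hH a ha _ (inv_mem hg) _ hg').2 (iff_of_false (Half.inv (H := H) h) h')
  have h2 : g' * a * g'⁻¹ = g * a * g⁻¹ := by
    calc g' * a * g'⁻¹ = g * ((g⁻¹ * g') * a) * g'⁻¹ := by group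
      _ = g * (a * (g⁻¹ * g')) * g'⁻¹ := by rw [mem_centralizer_singleton_iff.1 h1]
      _ = _ := by group
  rw [commutatorElement_def, commutatorElement_def, h2]

theorem comm_unique {a b a' b' : G} (ha : a ∈ H) (hb : b ∈ H) (ha' : a' ∈ H) (hb' : b' ∈ H)
    (h : ⁅a, b⁆ ≠ 1) (h' : ⁅a', b'⁆ ≠ 1) : ⁅a, b⁆ = ⁅a', b'⁆ := by
  have nc : ∀ {s t : G}, ⁅s, t⁆ ≠ 1 → s ∉ cent t := fun hne hm =>
    hne (commutatorElement_eq_one_iff_mul_comm.2 (mem_centralizer_singleton_iff.1 hm))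
  have ne1 : ∀ {s t : G}, s ∉ cent t → t ∉ cent s := fun hne hm =>
    hne (mem_centralizer_singleton_iff.2 (mem_centralizer_singleton_iff.1 hm).symm)
  obtain ⟨d, hd, hdb, hdb'⟩ : ∃ d ∈ H, d ∉ cent b ∧ d ∉ cent b' := by
    by_cases e1 : a ∈ cent b'
    · by_cases e2 : a' ∈ cent b
      · exact ⟨a * a', mul_mem ha ha',
          fun e => nc h ((((hH b hb) a ha a' ha').1 e).2 e2),
          fun e => nc h' ((((hH b' hb') a ha a' ha').1 e).1 e1)⟩
      · exact ⟨a', ha', e2, nc h'⟩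
    · exact ⟨a, ha, nc h, e1⟩
  calc ⁅a, b⁆ = ⁅d, b⁆ := comm_eq_left hH ha hd hb (nc h) hdb
    _ = ⁅b, d⁆ := (comm_symm hH hd hb).symm
    _ = ⁅b', d⁆ := comm_eq_left hH hb hb' hd (ne1 hdb) (ne1 hdb')
    _ = ⁅d, b'⁆ := comm_symm hH hd hb'
    _ = ⁅a', b'⁆ := comm_eq_left hH hd ha' hb' hdb' (nc h')

end comm

end Cfsg.Agent.PSLClassSizes
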