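import Cfsg.Agent.Lib.PSLClassSizes.OddCentral
import Cfsg.Agent.Lib.PSLClassSizes.CN
import Cfsg.Agent.S3322

/-!
# Class sizes of `PSL(2,q)`: odd `q`

* `XHyp.dGroup_or_twoGroup`: the centraliser of a central involution is a 2-group or a D-group
* `exists_psl_odd`
-/

open Subgroup
open scoped commutatorElement Pointwise

set_option autoImplicit false
set_option linter.unusedSectionVars false

namespace Cfsg.Agent.PSLClassSizes

open ThreeSizes

universe u

variable {X : Type u} [Group X] [Finite X]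

/-- centralizer of one element -/
local notation "cent" x:max => Subgroup.centralizer ({x} : Set _)

namespace XHyp

variable {x y z d : ℕ} (h : XHyp X x y z d)
include h

theorem exists_central_involution (hd2 : d = 2) :
    ∃ u : X, orderOf u = 2 ∧ Nat.card (cent u) = y := by
  haveI := Fact.mk Nat.prime_two
  obtain ⟨S⟩ : Nonempty (Sylow 2 X) := inferInstance
  have h2y : 2 ∣ y := by
    rcases h.hd with e | ⟨-, h4⟩
    · omega
    · exact (by norm_num : 2 ∣ 4).trans h4
  have hev : 2 ∣ Nat.card X := by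
    rw [h.card_eq]; exact h2y.trans ((dvd_mul_left y x).trans (dvd_mul_right _ z))
  haveI : Nontrivial (S : Subgroup X) := (nontrivial_iff_ne_bot _).2 (S.ne_bot_of_dvd_card hev)
  haveI := S.2.center_nontrivial
  obtain ⟨c, hc⟩ := exists_prime_orderOf_dvd_card' (G := center (S : Subgroup X)) 2 (by
    obtain ⟨m, hm⟩ := IsPGroup.iff_card.1 (S.2.to_subgroup (center (S : Subgroup X)))
    rw [hm]
    refine dvd_pow_self 2 ?_
    rintro rfl
    rw [pow_zero] at hm
    exact absurd hm Finite.one_lt_card.ne')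
  refine ⟨((c : (S : Subgroup X)) : X), by rw [Subgroup.orderOf_coe, Subgroup.orderOf_coe, hc], ?_⟩
  have hle : (S : Subgroup X) ≤ cent ((c : (S : Subgroup X)) : X) := fun a ha =>
    mem_cent.2 (congrArg Subtype.val (mem_center_iff.1 c.2 ⟨a, ha⟩))
  rcases h.cent_y 2 Nat.prime_two h2y ((c : (S : Subgroup X)) : X)
    (by rw [Subgroup.orderOf_coe, Subgroup.orderOf_coe, hc]) with e | e
  · exact e
  exfalso
  refine S.not_dvd_index ?_
  have h1 : 2 * Nat.card (S : Subgroup X) ∣ Nat.card X := by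
    refine Dvd.dvd.trans ?_ (h.card_eq ▸ (dvd_mul_left y x).trans (dvd_mul_right _ z))
    rw [← e, hd2]
    exact mul_dvd_mul_left 2 (card_dvd_of_le hle)
  rw [← (S : Subgroup X).card_mul_index, mul_comm] at h1
  exact Nat.dvd_of_mul_dvd_mul_left Nat.card_pos h1

theorem odd_comm (hd2 : d = 2) {u : X} (hu : orderOf u = 2) (hH : Nat.card (cent u) = y) {v w : X}
    (hv : v ∈ cent u) (hvo : Odd (orderOf v)) (hw : w ∈ cent u) (hwo : Odd (orderOf w)) :
    Commute w v := by
  have hc : Commute u v := (mem_cent.1 hv).symm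
  have hco : (orderOf u).Coprime (orderOf v) := by rw [hu]; exact Nat.coprime_two_left.2 hvo
  have hne : u * v ≠ 1 := fun e => by
    have h1 : orderOf v = orderOf u := by rw [← inv_eq_of_mul_eq_one_right e, orderOf_inv]
    rw [h1, hu] at hvo
    exact absurd hvo (by decide)
  have hhalf : Half (cent u) (cent v) := by
    refine half_of_card ?_
    rw [hH, ← cent_mul hc hco]
    exact h.cent_card_ge hd2 hH (mul_mem (self_mem u) hv) hne
  have h2 : w ^ 2 ∈ cent v := by rw [pow_two]; exact (hhalf w hw w hw).2 Iff.rfl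
  exact mem_cent.1 (Coprime.mem_of_pow_mem (Nat.coprime_two_right.2 hwo) h2)

theorem half_double {H C : Subgroup X} (hH : Half H C) {g : X} (hg : g ∈ H) (hgC : g ∉ C)
    (hCy : Nat.card H = y) : y ∣ 2 * Nat.card ↥(H ⊓ C) ∧ 2 * Nat.card ↥(H ⊓ C) = y := by
  have h1 := card_le_of_half hH
  have h2 := ((H ⊓ C).subgroupOf H).card_mul_index
  rw [Nat.card_congr (subgroupOfEquivOfLe (inf_le_left : H ⊓ C ≤ H)).toEquiv, hCy] at h2
  rw [hCy] at h1
  have h3 : ((H ⊓ C).subgroupOf H).index ≠ 1 := fun e =>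
    hgC (Subgroup.mem_inf.1 (mem_subgroupOf.1 (show (⟨g, hg⟩ : H) ∈ (H ⊓ C).subgroupOf H by
      rw [Subgroup.index_eq_one.1 e]; exact mem_top _))).2
  have h4 : ((H ⊓ C).subgroupOf H).index ≠ 0 := index_ne_zero_of_finite
  have hpos : 0 < Nat.card ↥(H ⊓ C) := Nat.card_pos
  have h5 : ((H ⊓ C).subgroupOf H).index = 2 := by
    by_contra hne
    have : 3 ≤ ((H ⊓ C).subgroupOf H).index := by omega
    nlinarith
  rw [h5, mul_comm] at h2
  exact ⟨h2.symm.dvd, h2⟩

/-- The shape of the centraliser of a central involution. -/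
theorem dGroup_or_twoGroup (hd2 : d = 2) :
    (∃ a, y = 2 ^ a) ∨ ∃ H A : Subgroup X, A < H ∧ (∀ g ∈ H, g ∉ A → g ^ 2 = 1) ∧ Nat.card H = y ∧
      ∀ j ∈ H, orderOf j = 2 → (∀ g ∈ H, g * j = j * g) → cent j = H := by
  haveI := Fact.mk Nat.prime_two
  obtain ⟨u, hu, hH⟩ := h.exists_central_involution hd2
  set H := cent u with hHdef
  have hcu : ∀ g ∈ H, Commute g u := fun g hg => mem_cent.1 hg
  have huH : u ∈ H := self_mem u
  by_cases hO : ∀ v ∈ H, Odd (orderOf v) → v = 1
  · left
    have hp : IsPGroup 2 H := fun g => by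
      obtain ⟨t, v, he, -, -, hv, htt, hvo⟩ := exists_parts Nat.prime_two (g : X)
      rw [hO v ((zpowers_le.2 g.2) hv) (Nat.odd_iff.2 (by omega)), mul_one] at he
      obtain ⟨k, hk⟩ := htt.pow_eq_one
      exact ⟨k, Subtype.ext (by rw [Subgroup.coe_pow, he, hk]; rfl)⟩
    obtain ⟨a, ha⟩ := IsPGroup.iff_card.1 hp
    exact ⟨a, hH ▸ ha⟩
  right
  push Not at hO
  obtain ⟨v1, hv1, hv1o, hv11⟩ := hO
  by_cases hcen : ∀ v ∈ H, Odd (orderOf v) → ∀ a ∈ H, Commute a v
  · exact (h.central_case hd2 hH hcen hv1 hv1o hv11).elim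
  push Not at hcen
  obtain ⟨v0, hv0, hv0o, a0, ha0, ha0v⟩ := hcen
  have ha0n : a0 ∉ cent v0 := fun e => ha0v (mem_cent.1 e)
  -- centralisers of odd elements meet `H` in index at most two
  have hhalf : ∀ v ∈ H, Odd (orderOf v) → Half H (cent v) := by
    intro v hv hvo
    have hc : Commute u v := (hcu v hv).symm
    have hne : u * v ≠ 1 := fun e => by
      have h1 : orderOf v = orderOf u := by rw [← inv_eq_of_mul_eq_one_right e, orderOf_inv]
      rw [h1, hu] at hvo
      exact absurd hvo (by decide)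
    refine half_of_card ?_
    rw [hH, hHdef, ← cent_mul hc (by rw [hu]; exact Nat.coprime_two_left.2 hvo)]
    exact h.cent_card_ge hd2 hH (mul_mem huH hv) hne
  set K := H ⊓ cent v0 with hKdef
  have hh0 := hhalf v0 hv0 hv0o
  have hKhalf : Half H K := by
    intro a ha b hb
    simp only [hKdef, Subgroup.mem_inf, mul_mem ha hb, ha, hb, true_and]
    exact hh0 a ha b hb
  have hKH : K ≤ H := inf_le_left
  have hKc : 2 * Nat.card K = y := (h.half_double hh0 ha0 ha0n hH).2
  -- odd elements lie in `K` and are central in it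
  have hoddK : ∀ v ∈ H, Odd (orderOf v) → v ∈ K := fun v hv hvo =>
    ⟨hv, mem_cent.2 (h.odd_comm hd2 hu hH hv0 hv0o hv hvo).eq⟩
  have hKcen : ∀ v ∈ H, Odd (orderOf v) → K ≤ cent v := by
    intro v hv hvo k hk
    by_contra hkv
    have hh := hhalf v hv hvo
    obtain ⟨g, hg, hg0, hgv⟩ : ∃ g ∈ H, g ∉ cent v0 ∧ g ∈ cent v := by
      by_cases e : a0 ∈ cent v
      · exact ⟨a0, ha0, ha0n, e⟩
      · exact ⟨a0 * k, mul_mem ha0 hk.1, fun e' => ha0n (((hh0 a0 ha0 k hk.1).1 e').2 hk.2),
          (hh a0 ha0 k hk.1).2 (iff_of_false e hkv)⟩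
    have hvv : Commute v0 v := h.odd_comm hd2 hu hH hv hvo hv0 hv0o
    have hw : v0 * v ∈ H := mul_mem hv0 hv
    have hwo : Odd (orderOf (v0 * v)) := Odd.of_dvd_nat (hv0o.mul hvo) hvv.orderOf_mul_dvd_mul_orderOf
    have h1 : g ∉ cent (v0 * v) := fun e => hg0 (by
      rw [mem_cent]
      have e' : g * (v0 * v) = v0 * v * g := mem_cent.1 e
      exact mul_right_cancel (b := v) (by
        calc g * v0 * v = v0 * v * g := by rw [mul_assoc, e']
          _ = v0 * (g * v) := by rw [mem_cent.1 hgv]; group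
          _ = v0 * g * v := by group))
    have h2 : k ∉ cent (v0 * v) := fun e => hkv (by
      rw [mem_cent]
      have e' : k * (v0 * v) = v0 * v * k := mem_cent.1 e
      exact mul_left_cancel (a := v0) (by
        calc v0 * (k * v) = k * v0 * v := by rw [mem_cent.1 hk.2]; group
          _ = v0 * v * k := by rw [← e']; group
          _ = v0 * (v * k) := by group))
    have h3 : g * k ∈ cent (v0 * v) := (hhalf _ hw hwo g hg k hk.1).2 (iff_of_false h1 h2)
    -- the conjugate of `v` by `k`
    set v' := k * v * k⁻¹ with hv'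
    set v0' := g * v0 * g⁻¹ with hv0'
    have hgv' : Commute g v' := by
      have e : k⁻¹ * g * k ∈ cent v :=
        (by simpa using hh.conj_mem (inv_mem hk.1) hg hgv)
      have e' : k⁻¹ * g * k * v = v * (k⁻¹ * g * k) := mem_cent.1 e
      show g * v' = v' * g
      calc g * v' = k * (k⁻¹ * g * k * v) * k⁻¹ := by rw [hv']; group
        _ = k * (v * (k⁻¹ * g * k)) * k⁻¹ := by rw [e']
        _ = v' * g := by rw [hv']; group
    have hkv0 : Commute k v0' := by
      have e : g⁻¹ * k * g ∈ cent v0 :=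
        (by simpa using hh0.conj_mem (inv_mem hg) hk.1 hk.2)
      have e' : g⁻¹ * k * g * v0 = v0 * (g⁻¹ * k * g) := mem_cent.1 e
      show k * v0' = v0' * k
      calc k * v0' = g * (g⁻¹ * k * g * v0) * g⁻¹ := by rw [hv0']; group
        _ = g * (v0 * (g⁻¹ * k * g)) * g⁻¹ := by rw [e']
        _ = v0' * k := by rw [hv0']; group
    have hprod : v0' * v' = v0 * v := by
      calc v0' * v' = g * v0 * g⁻¹ * (g * v' * g⁻¹) := by rw [hgv'.eq, hv0']; group
        _ = g * (v0 * (k * v * k⁻¹)) * g⁻¹ := by rw [hv']; group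
        _ = g * (k * v0 * v * k⁻¹) * g⁻¹ := by rw [mem_cent.1 hk.2]; group
        _ = g * k * (v0 * v) * (g * k)⁻¹ := by group
        _ = v0 * v := by rw [mem_cent.1 h3]; group
    have he : v0⁻¹ * v0' = v * v'⁻¹ := by
      calc v0⁻¹ * v0' = v0⁻¹ * (v0' * v') * v'⁻¹ := by group
        _ = v * v'⁻¹ := by rw [hprod]; group
    have hkk : k * v' * k⁻¹ = v := by
      have e : k * k ∈ cent v := (hh k hk.1 k hk.1).2 Iff.rfl
      calc k * v' * k⁻¹ = k * k * v * (k * k)⁻¹ := by rw [hv']; group
        _ = v := by rw [mem_cent.1 e]; group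
    have hkfix : k * (v0⁻¹ * v0') * k⁻¹ = v0⁻¹ * v0' := by
      rw [((show Commute k v0 from mem_cent.1 hk.2).inv_right.mul_right hkv0).eq]; group
    have hinv : k * (v * v'⁻¹) * k⁻¹ = (v * v'⁻¹)⁻¹ := by
      calc k * (v * v'⁻¹) * k⁻¹ = k * v * k⁻¹ * (k * v' * k⁻¹)⁻¹ := by group
        _ = v' * v⁻¹ := by rw [hkk]
        _ = _ := by group
    rw [he] at hkfix
    have hsq : (v * v'⁻¹) ^ 2 = 1 := by
      rw [pow_two]; exact eq_inv_iff_mul_eq_one.1 (hkfix.symm.trans hinv)
    have hv'H : v' ∈ H := mul_mem (mul_mem hk.1 hv) (inv_mem hk.1)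
    have hv'o : Odd (orderOf v') := by
      rwa [show v' = MulAut.conj k v from rfl, MulEquiv.orderOf_eq]
    have hodd : Odd (orderOf (v * v'⁻¹)) := Odd.of_dvd_nat (hvo.mul (by rwa [orderOf_inv]))
      (h.odd_comm hd2 hu hH hv'H hv'o hv hvo).inv_right.orderOf_mul_dvd_mul_orderOf
    have h1' : v * v'⁻¹ = 1 := orderOf_eq_one_iff.1 (Nat.eq_one_of_dvd_coprimes
      (Nat.coprime_two_left.2 hodd) (orderOf_dvd_of_pow_eq_one hsq) dvd_rfl)
    rw [mul_inv_eq_one] at h1'
    exact hkv (mem_cent.2 (mul_inv_eq_iff_eq_mul.1 h1'.symm))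
  -- `K` is abelian
  have hKab : ∀ a ∈ K, ∀ b ∈ K, Commute a b := by
    by_cases hA : ∃ v ∈ H, Odd (orderOf v) ∧ (∃ g ∈ H, g ∉ cent v) ∧ 2 * Nat.card (cent v) = y
    · obtain ⟨v, hv, hvo, ⟨g, -, hgv⟩, hvc⟩ := hA
      have hv1' : v ≠ 1 := fun e => hgv (by simp [e, mem_cent])
      have hcv : cent v = K := (eq_of_le_of_card_ge (hKcen v hv hvo) (by omega)).symm
      intro a ha b hb
      obtain ⟨t, w, he, -, ht, hw, htt, hwo⟩ := exists_parts Nat.prime_two b
      have htK : t ∈ K := (zpowers_le.2 hb) ht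
      have hwH : w ∈ H := hKH ((zpowers_le.2 hb) hw)
      have hwa : Commute a w := mem_cent.1 (hKcen w hwH (Nat.odd_iff.2 (by omega)) ha)
      have hta : Commute a t := by
        have hc : Commute t v := mem_cent.1 (hKcen v hv hvo htK)
        have hco : (orderOf t).Coprime (orderOf v) := by
          obtain ⟨j, hj⟩ := htt
          rw [hj]; exact (Nat.coprime_two_left.2 hvo).pow_left j
        have hne : t * v ≠ 1 := fun e => hv1' (orderOf_eq_one_iff.1 (Nat.eq_one_of_dvd_coprimes hco
          (by rw [eq_inv_of_mul_eq_one_left e, orderOf_inv]) dvd_rfl))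
        have h1 := h.cent_card_ge hd2 hH (mul_mem (hKH htK) hv) hne
        rw [cent_mul hc hco, hcv] at h1
        have h2 : cent t ⊓ K = K := eq_of_le_of_card_ge inf_le_right (by omega)
        exact mem_cent.1 ((h2.ge ha).1)
      rw [he]; exact hta.mul_right hwa
    · push Not at hA
      intro a ha b hb
      rw [← commutatorElement_eq_one_iff_commute]
      by_contra hne
      set c := ⁅a, b⁆ with hc
      have hcH : c ∈ H := by
        rw [hc, commutatorElement_def]
        exact mul_mem (mul_mem (mul_mem (hKH ha) (hKH hb)) (inv_mem (hKH ha))) (inv_mem (hKH hb))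
      have hbig : ∀ v ∈ H, Odd (orderOf v) → (∃ g ∈ H, g ∉ cent v) → cent v = cent c ∧
          ∀ w ∈ cent v, Odd (orderOf w) → w ∈ K := by
        intro v hv hvo hnc
        have hv1' : v ≠ 1 := fun e => by
          obtain ⟨g, -, hg⟩ := hnc
          exact hg (by simp [e, mem_cent])
        have hcard : Nat.card (cent v) = y := by
          rcases h.cent_card hH hv hv1' with e | e
          · exact e
          · rw [hd2] at e; exact absurd e (hA v hv hvo hnc)
        have hle := hKcen v hv hvo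
        have hK2 : Half (cent v) K := half_of_card (by rw [inf_eq_right.2 hle, hcard, hKc])
        have hoK : ∀ w ∈ cent v, Odd (orderOf w) → w ∈ K := fun w hw hwo => by
          have e : w ^ 2 ∈ K := by rw [pow_two]; exact (hK2 w hw w hw).2 Iff.rfl
          exact Coprime.mem_of_pow_mem (Nat.coprime_two_right.2 hwo) e
        refine ⟨eq_of_le_of_card_ge (fun w hw => ?_) ?_, hoK⟩
        · obtain ⟨t, w', he, -, ht, hw', htt, hwo⟩ := exists_parts Nat.prime_two w
          have h1 : Commute c t :=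
            mem_cent.1 ((h.half_mul hd2 hcard (self_mem v) rfl hvo hv1' ((zpowers_le.2 hw) ht) htt).comm_mem
              (hle ha) (hle hb))
          have hw'o : Odd (orderOf w') := Nat.odd_iff.2 (by omega)
          have hw'K : w' ∈ H := hKH (hoK w' ((zpowers_le.2 hw) hw') hw'o)
          have hhw : Half (cent v) (cent w') := by
            refine half_of_card ?_
            rw [hcard, ← hKc]
            exact Nat.mul_le_mul_left 2 (Nat.le_of_dvd Nat.card_pos
              (card_dvd_of_le (le_inf hle (hKcen w' hw'K hw'o))))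
          have h2 : Commute c w' := mem_cent.1 (hhw.comm_mem (hle ha) (hle hb))
          rw [mem_cent, he]
          exact (h1.mul_right h2).eq.symm
        · rcases h.cent_card hH hcH hne with e | e
          · omega
          · rw [hd2] at e; omega
      obtain ⟨hceq, hoK⟩ := hbig v0 hv0 hv0o ⟨a0, ha0, ha0n⟩
      have hcardc : Nat.card (cent v0) = y := by
        rcases h.cent_card hH hv0 (fun e => ha0n (by simp [e, mem_cent])) with e | e
        · exact e
        · rw [hd2] at e; exact absurd e (hA v0 hv0 hv0o ⟨a0, ha0, ha0n⟩)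
      refine h.central_case hd2 hcardc (fun w hw hwo g hg => ?_) (self_mem v0) hv0o
        (fun e => ha0n (by simp [e, mem_cent]))
      have hwH : w ∈ H := hKH (hoK w hw hwo)
      by_cases hnc : ∃ g' ∈ H, g' ∉ cent w
      · rw [hceq, ← (hbig w hwH hwo hnc).1] at hg
        exact mem_cent.1 hg
      · push Not at hnc
        have hvw : Commute v0 w := h.odd_comm hd2 hu hH hwH hwo hv0 hv0o
        have hn : a0 ∉ cent (v0 * w) := fun e => ha0n (by
          rw [mem_cent]
          have e' : a0 * (v0 * w) = v0 * w * a0 := mem_cent.1 e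
          exact mul_right_cancel (b := w) (by
            calc a0 * v0 * w = v0 * w * a0 := by rw [mul_assoc, e']
              _ = v0 * (a0 * w) := by rw [mem_cent.1 (hnc a0 ha0)]; group
              _ = v0 * a0 * w := by group))
        have e1 := (hbig (v0 * w) (mul_mem hv0 hwH)
          (Odd.of_dvd_nat (hv0o.mul hwo) hvw.orderOf_mul_dvd_mul_orderOf) ⟨a0, ha0, hn⟩).1
        have hg' : g ∈ cent (v0 * w) := e1 ▸ hceq ▸ hg
        have e2 : g * (v0 * w) = v0 * w * g := mem_cent.1 hg'
        show g * w = w * g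
        refine mul_left_cancel (a := v0) ?_
        calc v0 * (g * w) = g * v0 * w := by rw [mem_cent.1 hg]; group
          _ = v0 * w * g := by rw [← e2]; group
          _ = v0 * (w * g) := by group
  -- elements outside `K`
  have houtfix : ∀ t ∈ H, t ∉ K → IsElt 2 t → ∀ v ∈ H, Odd (orderOf v) → t ∈ cent v → v = 1 := by
    intro t ht htK htt v hv hvo htv
    by_contra hv1'
    have hcv : cent v = H := h.cent_eq_of_central hH hv hv1' fun g hg => by
      by_cases hgK : g ∈ K
      · exact mem_cent.1 (hKcen v hv hvo hgK)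
      · have h1 : t⁻¹ * g ∈ K := (hKhalf _ (inv_mem ht) g hg).2
          (iff_of_false (fun e => htK (inv_mem_iff.1 e)) hgK)
        have h2 : Commute (t⁻¹ * g) v := mem_cent.1 (hKcen v hv hvo h1)
        simpa using (show Commute t v from mem_cent.1 htv).mul_left h2
    have hc : Commute t v := mem_cent.1 htv
    have hco : (orderOf t).Coprime (orderOf v) := by
      obtain ⟨j, hj⟩ := htt
      rw [hj]; exact (Nat.coprime_two_left.2 hvo).pow_left j
    have hne : t * v ≠ 1 := fun e => hv1' (orderOf_eq_one_iff.1 (Nat.eq_one_of_dvd_coprimes hco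
      (by rw [eq_inv_of_mul_eq_one_left e, orderOf_inv]) dvd_rfl))
    have h1 := h.cent_card_ge hd2 hH (mul_mem ht hv) hne
    rw [cent_mul hc hco, hcv] at h1
    have hKt : Half K (cent t) := by
      refine half_of_card ?_
      have h2 : Half (cent t ⊓ H) K := fun p hp q hq => hKhalf p hp.2 q hq.2
      obtain ⟨-, h3⟩ := h.half_double hKhalf ht htK hH
      have h4 := card_le_of_half h2
      have h5 : cent t ⊓ H ⊓ K = K ⊓ cent t :=
        le_antisymm (fun p hp => ⟨hp.2, hp.1.1⟩) fun p hp => ⟨⟨hp.2, hKH hp.1⟩, hp.1⟩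
      rw [h5] at h4
      omega
    have hv0K : v0 ∈ K := hoddK v0 hv0 hv0o
    have h6 : v0 ^ 2 ∈ cent t := by rw [pow_two]; exact (hKt v0 hv0K v0 hv0K).2 Iff.rfl
    exact htK ⟨ht, mem_cent_symm (Coprime.mem_of_pow_mem (Nat.coprime_two_right.2 hv0o) h6)⟩
  have hout : ∀ t ∈ H, t ∉ K → IsElt 2 t → t ^ 2 = 1 := by
    intro t ht htK htt
    -- `Z = C_K(t)` is the centre of `H`
    have hZH : ∀ e ∈ K, e ∈ cent t → ∀ g ∈ H, Commute g e := by
      intro e he het g hg
      by_cases hgK : g ∈ K
      · exact hKab g hgK e he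
      · have h1 : t⁻¹ * g ∈ K := (hKhalf _ (inv_mem ht) g hg).2
          (iff_of_false (fun e => htK (inv_mem_iff.1 e)) hgK)
        simpa using (show Commute t e from (mem_cent.1 het).symm).mul_left (hKab _ h1 e he)
    have huK : u ∈ K := ⟨huH, mem_cent.2 (hcu v0 hv0).eq.symm⟩
    have hut : u ∈ cent t := mem_cent.2 (hcu t ht).eq.symm
    have hsmall : ∀ e ∈ K, e ∈ cent t → e = 1 ∨ e = u := by
      intro e he het
      by_contra hne
      push Not at hne
      obtain ⟨r, hr, hrd⟩ := Nat.exists_prime_and_dvd (fun e' => hv11 (orderOf_eq_one_iff.1 e'))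
      have hr2 : r ≠ 2 := fun e' => by subst e'; exact Nat.not_even_iff_odd.2 hv1o (even_iff_two_dvd.2 hrd)
      have hry : r ∣ y := hH ▸ hrd.trans (Subgroup.orderOf_mk v1 hv1 ▸ orderOf_dvd_natCard _)
      have hrc : r ∣ Nat.card (cent t) := by
        rcases h.cent_card hH ht (fun e' => htK (e' ▸ one_mem _)) with e' | e'
        · rw [e']; exact hry
        · rw [hd2] at e'
          rw [← e'] at hry
          exact ((Nat.coprime_primes hr Nat.prime_two).2 hr2).dvd_of_dvd_mul_left hry
      haveI := Fact.mk hr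
      obtain ⟨v, hv⟩ := exists_prime_orderOf_dvd_card' r hrc
      have hvX : orderOf (v : X) = r := by rw [Subgroup.orderOf_coe, hv]
      have hvo : Odd (orderOf (v : X)) := hvX ▸ hr.odd_of_ne_two hr2
      have hv1' : (v : X) ≠ 1 := fun e' => by rw [e', orderOf_one] at hvX; exact hr.ne_one hvX.symm
      have hc : Commute t (v : X) := (mem_cent.1 v.2).symm
      have hco : (orderOf t).Coprime (orderOf (v : X)) := by
        obtain ⟨j, hj⟩ := htt
        rw [hj]; exact (Nat.coprime_two_left.2 hvo).pow_left j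
      have hhv : Half (cent t) (cent (v : X)) := by
        refine half_of_card ?_
        rw [← cent_mul hc hco]
        have h1 : 2 ∣ orderOf (t * (v : X)) := by
          rw [hc.orderOf_mul_eq_mul_orderOf_of_coprime hco]
          refine Dvd.dvd.mul_right ?_ _
          obtain ⟨j, hj⟩ := htt
          rw [hj]
          refine dvd_pow_self 2 ?_
          rintro rfl
          exact htK ((orderOf_eq_one_iff.1 (by rw [hj, pow_zero]) : t = 1) ▸ one_mem _)
        have h2y : 2 ∣ y := hH ▸ hu ▸ (Subgroup.orderOf_mk u huH ▸ orderOf_dvd_natCard _)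
        rcases h.cent_card hH ht (fun e' => htK (e' ▸ one_mem _)) with e1 | e1 <;>
          rcases h.cent_y 2 Nat.prime_two h2y _ h1 with e2 | e2 <;>
          (try rw [hd2] at e1) <;> (try rw [hd2] at e2) <;> omega
      have hkey : ∀ p ∈ K, p ∈ cent t → p ≠ 1 → p ∈ cent (v : X) → False := by
        intro p hp hpt hp1 hpv
        have h1 : cent p = H := h.cent_eq_of_central hH (hKH hp) hp1 (hZH p hp hpt)
        exact hv1' (houtfix t ht htK htt v (h1 ▸ mem_cent_symm hpv) hvo (mem_cent.2 hc.eq))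
      have hu1 : u ≠ 1 := fun e' => by rw [e', orderOf_one] at hu; omega
      by_cases e1 : e ∈ cent (v : X)
      · exact hkey e he het hne.1 e1
      by_cases e2 : u ∈ cent (v : X)
      · exact hkey u huK hut hu1 e2
      refine hkey (e * u) (mul_mem he huK) (mul_mem het hut) (fun e3 => hne.2 ?_)
        ((hhv e het u hut).2 (iff_of_false e1 e2))
      rw [eq_inv_of_mul_eq_one_left e3]
      exact inv_eq_of_mul_eq_one_right (by rw [← pow_two, ← hu, pow_orderOf_eq_one])
    have ht2 : t * t ∈ K := (hKhalf t ht t ht).2 Iff.rfl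
    rcases hsmall (t * t) ht2 (mem_cent.2 (by group)) with e | e
    · rw [pow_two, e]
    exfalso
    have hle : cent t ≤ H := fun g hg => by
      rw [hHdef, mem_cent, ← e]
      exact ((show Commute g t from mem_cent.1 hg).mul_right (mem_cent.1 hg)).eq
    have h1 := card_le_of_half (show Half (cent t) K from fun p hp q hq => hKhalf p (hle hp) q (hle hq))
    have h2 : Nat.card ↥(cent t ⊓ K) ≤ 2 := by
      rw [← SetLike.coe_sort_coe, Nat.card_coe_set_eq]
      refine le_trans (Set.ncard_le_ncard (t := ({1, u} : Set X)) (fun p hp => ?_)) ?_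
      · simpa using hsmall p hp.2 hp.1
      · exact (Set.ncard_insert_le _ _).trans (by rw [Set.ncard_singleton])
    obtain ⟨r, hr, hrd⟩ := Nat.exists_prime_and_dvd (fun e' => hv11 (orderOf_eq_one_iff.1 e'))
    have hr2 : r ≠ 2 := fun e' => by subst e'; exact Nat.not_even_iff_odd.2 hv1o (even_iff_two_dvd.2 hrd)
    have hry : r ∣ y := hH ▸ hrd.trans (Subgroup.orderOf_mk v1 hv1 ▸ orderOf_dvd_natCard _)
    have h4 : 4 ∣ y := by rcases h.hd with e' | ⟨-, e'⟩ <;> omega
    have h12 : 4 * r ∣ y := (((Nat.coprime_primes hr Nat.prime_two).2 hr2).symm.pow_left 2 :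
      Nat.Coprime 4 r).mul_dvd_of_dvd_of_dvd h4 hry
    have := Nat.le_of_dvd (by have := h.hy; omega) h12
    have := hr.two_le
    have h5 : y ≤ 2 * Nat.card (cent t) :=
      h.cent_card_ge hd2 hH ht (fun e' => htK (e' ▸ one_mem _))
    omega
  refine ⟨H, K, lt_of_le_of_ne hKH (fun e => ha0n ((e.ge ha0).2)), fun g hg hgK => ?_, hH,
    fun j hj hj2 hjc => h.cent_eq_of_central hH hj (fun e => by rw [e, orderOf_one] at hj2; omega)
      fun g hg => hjc g hg⟩
  obtain ⟨t, w, he, hc, ht, hw, htt, hwo⟩ := exists_parts Nat.prime_two g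
  have htH : t ∈ H := (zpowers_le.2 hg) ht
  have hwH : w ∈ H := (zpowers_le.2 hg) hw
  have hwo' : Odd (orderOf w) := Nat.odd_iff.2 (by omega)
  have htK : t ∉ K := fun e => hgK (he ▸ mul_mem e (hoddK w hwH hwo'))
  rw [he, houtfix t htH htK htt w hwH hwo' (mem_cent.2 hc.eq), mul_one]
  exact hout t htH htK htt

end XHyp

end Cfsg.Agent.PSLClassSizes
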