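import Cfsg.Agent.Lib.PSLClassSizes.Quot
import Cfsg.Agent.Lib.PSLClassSizes.Half
import Cfsg.Agent.Lib.ZStar.Apply
import Cfsg.Agent.Lib.ZStar.Unique
import Cfsg.Agent.Lib.PSL2.Centralizers
import Cfsg.Agent.Lib.HallOrders.Basic
import Cfsg.Agent.S3188

/-!
# Class sizes of `PSL(2,q)`: a centraliser with central odd part

* `XHyp.central_case`: no subgroup of order `y` has a non-trivial central odd part
-/

open Subgroup
open scoped commutatorElement Pointwise

set_option autoImplicit false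
set_option linter.unusedSectionVars false

namespace Cfsg.Agent.PSLClassSizes

open ThreeSizes

universe u

variable {X : Type u} [Group X] [Finite X]

/-- centralizer of one element -/
local notation "cent" x:max => Subgroup.centralizer ({x} : Set _)

/-- An abelian involution centraliser of `PSL(2,Q)` has no non-trivial element of odd order. -/
theorem psl_abelian_cent {K : Type} [Field K] [Finite K]
    (hK : (Nat.card K % 2 = 1 ∧ 5 ≤ Nat.card K) ∨ ∃ n, Nat.card K = 2 ^ n)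
    {t v : Matrix.ProjectiveSpecialLinearGroup (Fin 2) K} (ht : orderOf t = 2)
    (hab : ∀ a ∈ cent t, ∀ b ∈ cent t, Commute a b) (hv : v ∈ cent t) (hvo : Odd (orderOf v)) :
    v = 1 := by
  by_contra hv1
  have hdv : orderOf v ∣ Nat.card ↥(cent t) := by
    rw [← Subgroup.orderOf_mk v hv]; exact orderOf_dvd_natCard _
  have hv3 : 3 ≤ orderOf v := by
    have h1 : orderOf v ≠ 1 := fun e => hv1 (orderOf_eq_one_iff.1 e)
    have h2 := orderOf_pos v
    rw [Nat.odd_iff] at hvo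
    omega
  obtain ⟨p, hp⟩ := CharP.exists K
  have : Fact p.Prime := ⟨CharP.char_is_prime K p⟩
  obtain ⟨n, hn, hq, hcases⟩ := PSL2.q_cases (F := K) p
  rcases hK with ⟨hodd, h5⟩ | ⟨m, hm⟩
  · have hodd' : Odd (Nat.card K) := Nat.odd_iff.2 hodd
    rcases hcases with ⟨-, he, -⟩ | ⟨hp2, -, hd, -⟩
    · exact absurd he (Nat.not_even_iff_odd.2 hodd')
    have hc : Nat.card ↥(cent t) = Nat.card K - 1 ∨ Nat.card ↥(cent t) = Nat.card K + 1 := by
      obtain ⟨h1, h3⟩ := PSL2.card_centralizer_involution hodd' ht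
      rcases (show Nat.card K % 4 = 1 ∨ Nat.card K % 4 = 3 by omega) with e | e
      · exact Or.inl (h1 e)
      · exact Or.inr (h3 e)
    have hvp : ¬ orderOf v ∣ p := by
      intro hd'
      rcases (Fact.out : p.Prime).eq_one_or_self_of_dvd _ hd' with e | e
      · omega
      rw [e] at hdv
      have hpq : p ∣ Nat.card K := hq ▸ dvd_pow_self p (by omega)
      rcases hc with e' | e' <;> rw [e'] at hdv
      · have := Nat.dvd_sub hpq hdv
        rw [show Nat.card K - (Nat.card K - 1) = 1 by omega] at this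
        exact (Fact.out : p.Prime).not_dvd_one this
      · exact (Fact.out : p.Prime).not_dvd_one ((Nat.dvd_add_right hpq).1 hdv)
    obtain ⟨w, -, hC, hw⟩ := PSL2.centralizer_torus p hvp hv3
    have hle : cent t ≤ zpowers w := by
      rw [← hC]
      exact fun a ha => mem_cent.2 (hab a ha v hv).eq
    have hdw := card_dvd_of_le hle
    rw [Nat.card_zpowers] at hdw
    have hle' := Nat.le_of_dvd (orderOf_pos w) hdw
    rw [hd] at hw
    rcases hc with e | e <;> rw [e] at hle' <;> rcases hw with e' | e' <;> omega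
  · rcases hcases with ⟨rfl, -, -, -⟩ | ⟨-, ho, -, -⟩
    · rw [PSL2.card_centralizer_char 2 ht, hm] at hdv
      exact hv1 (orderOf_eq_one_iff.1
        (Nat.eq_one_of_dvd_coprimes ((Nat.coprime_two_left.2 hvo).pow_left m).symm dvd_rfl hdv))
    · rw [hm, Nat.odd_pow_iff (by rintro rfl; have := Finite.one_lt_card (α := K); rw [pow_zero] at hm; omega)] at ho
      exact absurd ho (by decide)

namespace XHyp

variable {x y z d : ℕ} (h : XHyp X x y z d)
include h

theorem oddCore_eq_bot : pPrimeCore 2 X = ⊥ :=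
  h.noSolv _ inferInstance (OddOrderTheorem.solvable
    (Nat.coprime_two_right.1 (Cores.coprime_card_pPrimeCore 2)))

theorem center_eq_bot : center X = ⊥ :=
  h.noSolv _ inferInstance (Group.isSolvable_of_comm fun a b => Subtype.ext (mem_center_iff.1 b.2 a))

theorem odd_xz (hd2 : d = 2) : Odd (x * z) := by
  rcases h.hd with e | ⟨-, h4⟩
  · omega
  have h2 : 2 ∣ y := (by norm_num : 2 ∣ 4).trans h4
  rw [← Nat.coprime_two_left]
  exact Nat.Coprime.coprime_dvd_left h2 (h.cxy.symm.mul_right h.cyz)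

theorem cent_card {H : Subgroup X} (hH : Nat.card H = y) {w : X} (hw : w ∈ H) (hw1 : w ≠ 1) :
    Nat.card (cent w) = y ∨ d * Nat.card (cent w) = y := by
  obtain ⟨r, hr, hd⟩ := Nat.exists_prime_and_dvd (fun e => hw1 (orderOf_eq_one_iff.1 e))
  refine h.cent_y r hr (hd.trans ?_) w hd
  rw [← hH, ← Subgroup.orderOf_mk w hw]
  exact orderOf_dvd_natCard _

theorem cent_eq_of_central {H : Subgroup X} (hH : Nat.card H = y) {w : X} (hw : w ∈ H) (hw1 : w ≠ 1)
    (hc : ∀ a ∈ H, Commute a w) : cent w = H := by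
  refine (eq_of_le_of_card_ge (fun a ha => mem_cent.2 (hc a ha).eq) ?_).symm
  rcases h.cent_card hH hw hw1 with e | e
  · omega
  · rcases h.hd with e' | ⟨e', -⟩ <;> rw [e'] at e <;> omega

theorem cent_card_ge (hd2 : d = 2) {H : Subgroup X} (hH : Nat.card H = y) {w : X} (hw : w ∈ H)
    (hw1 : w ≠ 1) : y ≤ 2 * Nat.card (cent w) := by
  rcases h.cent_card hH hw hw1 with e | e
  · omega
  · rw [hd2] at e; omega

theorem half_mul (hd2 : d = 2) {H : Subgroup X} (hH : Nat.card H = y) {v : X} (hv : v ∈ H)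
    (hvH : cent v = H) (hvo : Odd (orderOf v)) (hv1 : v ≠ 1) {w : X} (hw : w ∈ H) (hwt : IsElt 2 w) :
    Half H (cent w) := by
  refine half_of_card ?_
  rw [hH]
  have hc : Commute w v := mem_cent.1 (hvH ▸ hw : w ∈ cent v)
  have hco : (orderOf w).Coprime (orderOf v) := by
    obtain ⟨k, hk⟩ := hwt
    rw [hk]; exact (Nat.coprime_two_left.2 hvo).pow_left k
  have hne : w * v ≠ 1 := fun e => hv1 (orderOf_eq_one_iff.1 (Nat.eq_one_of_dvd_coprimes hco
    (by rw [eq_inv_of_mul_eq_one_left e, orderOf_inv]) dvd_rfl))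
  have := h.cent_card_ge hd2 hH (mul_mem hw hv) hne
  rwa [cent_mul hc hco, hvH, inf_comm] at this

theorem sylow_in (hd2 : d = 2) {H : Subgroup X} (hH : Nat.card H = y) :
    ∃ S : Sylow 2 X, (S : Subgroup X) ≤ H := by
  haveI := Fact.mk Nat.prime_two
  have hidx : ¬ 2 ∣ H.index := by
    have h1 := H.card_mul_index
    rw [hH, h.card_eq] at h1
    have hy := h.hy
    have : H.index = x * z := Nat.eq_of_mul_eq_mul_left (by omega) (h1.trans (by ring))
    rw [this]
    exact (h.odd_xz hd2).not_two_dvd_nat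
  obtain ⟨U, hU, hUp, hUc⟩ := exists_le_card_cp 2 H
  obtain ⟨S, hS⟩ := hUp.exists_le_sylow
  refine ⟨S, ?_⟩
  have : U = (S : Subgroup X) := by
    refine eq_of_le_of_card_ge hS (le_of_eq ?_)
    rw [hUc, cp_eq_top_iff.2 hidx]
    exact card_sylow S
  exact this ▸ hU

theorem central_abelian_case (hd2 : d = 2) {H : Subgroup X} (hH : Nat.card H = y)
    (hab : ∀ a ∈ H, ∀ b ∈ H, Commute a b) {v0 : X} (hv0 : v0 ∈ H) (hv0o : Odd (orderOf v0))
    (hv1 : v0 ≠ 1) : False := by
  haveI := Fact.mk Nat.prime_two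
  obtain ⟨S, hS⟩ := h.sylow_in hd2 hH
  have hSc : IsMulCommutative ↥(S : Subgroup X) :=
    ⟨⟨fun a b => Subtype.ext (hab a (hS a.2) b (hS b.2)).eq⟩⟩
  have hsol : ∀ t : X, orderOf t = 2 → Group.IsSolvable ↥(cent t) := by
    intro t ht
    obtain ⟨Q, hQ⟩ := (isPGroup_zpowers (q := 2) (x := t) ⟨1, by rw [ht, pow_one]⟩).exists_le_sylow
    obtain ⟨a, ha⟩ := MulAction.exists_smul_eq X Q S
    have h1 : a * t * a⁻¹ ∈ H := by
      refine hS ?_
      rw [← ha, Sylow.coe_subgroup_smul, Subgroup.mem_pointwise_smul_iff_inv_smul_mem, ← map_inv,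
        MulAut.smul_def, MulAut.conj_apply, inv_inv]
      simpa [mul_assoc] using hQ (mem_zpowers t)
    have h2 : cent (a * t * a⁻¹) = H := h.cent_eq_of_central hH h1 (fun e => by
      rw [conj_eq_one_iff.1 e, orderOf_one] at ht; omega) fun b hb => hab b hb _ h1
    rw [cent_conj] at h2
    refine Group.isSolvable_of_comm fun p q => Subtype.ext ?_
    have hp : a * (p : X) * a⁻¹ ∈ H := h2 ▸ ⟨p, p.2, rfl⟩
    have hq : a * (q : X) * a⁻¹ ∈ H := h2 ▸ ⟨q, q.2, rfl⟩
    have h3 := (hab _ hp _ hq).eq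
    show (p : X) * q = q * p
    have h4 : a * ((p : X) * q) * a⁻¹ = a * (q * p) * a⁻¹ := by
      calc a * ((p : X) * q) * a⁻¹ = a * p * a⁻¹ * (a * q * a⁻¹) := by group
        _ = a * q * a⁻¹ * (a * p * a⁻¹) := h3
        _ = _ := by group
    exact mul_left_cancel (mul_right_cancel h4)
  rcases S3188.result S hSc hsol with hs | ⟨K, iK, iK', hK, N, hNn, ⟨e⟩, -⟩
  · exact h.ns hs
  have hO : oddCore X = ⊥ := h.oddCore_eq_bot
  let φ : X ≃* X ⧸ oddCore X :=
    QuotientGroup.quotientBot.symm.trans (QuotientGroup.quotientMulEquivOfEq hO.symm)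
  set L : Subgroup X := N.comap φ.toMonoidHom with hL
  haveI : L.Normal := hNn.comap _
  let eL : L ≃* Matrix.ProjectiveSpecialLinearGroup (Fin 2) K :=
    ((φ.subgroupMap L).trans (MulEquiv.subgroupCongr (Subgroup.map_comap_eq_self_of_surjective φ.surjective N))).trans e
  have hLne : L ≠ ⊥ := by
    intro hb
    have h1 := Nat.card_congr eL.toEquiv
    rw [hb, Subgroup.card_bot] at h1
    have hKc : 4 ≤ Nat.card K := by
      rw [Nat.card_eq_fintype_card]
      rcases hK with ⟨-, h5⟩ | ⟨n, hn, hn'⟩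
      · omega
      · rw [hn']; exact (show 2 ^ 2 ≤ 2 ^ n from Nat.pow_le_pow_right two_pos hn)
    haveI := PSL2.isSimpleGroup_psl (L := K) hKc
    have := Finite.one_lt_card (α := Matrix.ProjectiveSpecialLinearGroup (Fin 2) K)
    omega
  have hLs : ¬ Group.IsSolvable L := fun hs => hLne (h.noSolv L inferInstance hs)
  obtain ⟨P⟩ : Nonempty (Sylow 2 L) := inferInstance
  have hev : 2 ∣ Nat.card L := by
    by_contra hc
    exact hLs (OddOrderTheorem.solvable (Nat.odd_iff.2 (by omega)))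
  have hPne : (P : Subgroup L) ≠ ⊥ := P.ne_bot_of_dvd_card hev
  obtain ⟨Q, hQ⟩ := (P.2.map L.subtype).exists_le_sylow
  obtain ⟨a, ha⟩ := MulAction.exists_smul_eq X S Q
  set H2 : Subgroup X := MulAut.conj a • H with hH2
  have hH2c : Nat.card H2 = y := by
    rw [← hH, hH2]
    exact Nat.card_congr (Subgroup.equivSMul _ H).symm.toEquiv
  have hmem : ∀ b, b ∈ H2 ↔ a⁻¹ * b * a ∈ H := fun b => by
    rw [hH2, Subgroup.mem_pointwise_smul_iff_inv_smul_mem, ← map_inv, MulAut.smul_def, MulAut.conj_apply,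
      inv_inv]
  have hab2 : ∀ p ∈ H2, ∀ q ∈ H2, Commute p q := by
    intro p hp q hq
    have h3 := (hab _ ((hmem p).1 hp) _ ((hmem q).1 hq)).eq
    have h4 : a⁻¹ * (p * q) * a = a⁻¹ * (q * p) * a := by
      calc a⁻¹ * (p * q) * a = a⁻¹ * p * a * (a⁻¹ * q * a) := by group
        _ = a⁻¹ * q * a * (a⁻¹ * p * a) := h3
        _ = _ := by group
    exact mul_left_cancel (mul_right_cancel h4)
  have hPH : ∀ b : L, b ∈ (P : Subgroup L) → (b : X) ∈ H2 := by
    intro b hb
    have h1 : (b : X) ∈ (Q : Subgroup X) := hQ ⟨b, hb, rfl⟩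
    rw [← ha, Sylow.coe_subgroup_smul, Subgroup.mem_pointwise_smul_iff_inv_smul_mem, ← map_inv,
      MulAut.smul_def, MulAut.conj_apply, inv_inv] at h1
    exact (hmem _).2 (hS h1)
  obtain ⟨t, ht⟩ := exists_prime_orderOf_dvd_card' (G := (P : Subgroup L)) 2 (by
    obtain ⟨k, hk⟩ := IsPGroup.iff_card.1 P.2
    rw [hk]
    refine dvd_pow_self 2 ?_
    rintro rfl
    exact hPne (card_eq_one.1 (by rw [hk, pow_zero])))
  have htL : orderOf (t : L) = 2 := by rw [Subgroup.orderOf_coe, ht]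
  have htX : orderOf ((t : L) : X) = 2 := by rw [Subgroup.orderOf_coe, htL]
  have hct : cent ((t : L) : X) = H2 :=
    h.cent_eq_of_central hH2c (hPH _ t.2) (fun e => by rw [e, orderOf_one] at htX; omega)
      fun b hb => hab2 b hb _ (hPH _ t.2)
  have hnoodd : ∀ c : L, (c : X) ∈ H2 → Odd (orderOf c) → c = 1 := by
    intro c hc hco
    have hK' : (Nat.card K % 2 = 1 ∧ 5 ≤ Nat.card K) ∨ ∃ n, Nat.card K = 2 ^ n := by
      rw [Nat.card_eq_fintype_card]
      rcases hK with ⟨hm, h5⟩ | ⟨n, -, hn⟩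
      · exact Or.inl ⟨by omega, h5⟩
      · exact Or.inr ⟨n, hn⟩
    refine eL.injective ((psl_abelian_cent hK' (t := eL (t : L)) (by rw [MulEquiv.orderOf_eq, htL]) ?_ ?_
      (by rw [MulEquiv.orderOf_eq]; exact hco)).trans eL.map_one.symm)
    · intro p hp q hq
      obtain ⟨p, rfl⟩ := eL.surjective p
      obtain ⟨q, rfl⟩ := eL.surjective q
      have key : ∀ r : L, eL r ∈ cent (eL (t : L)) → (r : X) ∈ H2 := fun r hr => by
        rw [mem_cent, ← map_mul, ← map_mul] at hr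
        rw [← hct, mem_cent]
        exact congrArg Subtype.val (eL.injective hr)
      show eL p * eL q = eL q * eL p
      rw [← map_mul, ← map_mul]
      exact congrArg eL (Subtype.ext (hab2 _ (key p hp) _ (key q hq)).eq)
    · rw [mem_cent, ← map_mul, ← map_mul]
      exact congrArg eL (Subtype.ext (mem_cent.1 (hct ▸ hc : (c : X) ∈ cent ((t : L) : X))))
  have hv : a * v0 * a⁻¹ ∈ H2 := (hmem _).2 (by simpa [mul_assoc] using hv0)
  have hvo : Odd (orderOf (a * v0 * a⁻¹)) := by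
    rwa [show a * v0 * a⁻¹ = MulAut.conj a v0 from rfl, MulEquiv.orderOf_eq]
  have hvne : a * v0 * a⁻¹ ≠ 1 := fun e => hv1 (conj_eq_one_iff.1 e)
  have hcv : cent (a * v0 * a⁻¹) = H2 :=
    h.cent_eq_of_central hH2c hv hvne fun b hb => hab2 b hb _ hv
  refine hLs (CoprimeNilMax.solvable_of_normal_complement
    (Transfer.hasNormalPComplement_of_normalizer_le_centralizer P fun b hb => ?_) rfl)
  rw [mem_centralizer_iff]
  intro r hr
  -- `b` normalises `H2`
  have hbH : ∀ g ∈ H2, (b : X) * g * (b : X)⁻¹ ∈ H2 := by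
    intro g hg
    have h1 : b⁻¹ * (t : L) * b ∈ (P : Subgroup L) := (mem_normalizer_iff''.1 hb (t : L)).1 t.2
    have h2 : Commute g ((b⁻¹ * (t : L) * b : L) : X) := hab2 g hg _ (hPH _ h1)
    rw [← hct, mem_cent]
    have h3 : g * ((b : X)⁻¹ * ((t : L) : X) * b) = (b : X)⁻¹ * ((t : L) : X) * b * g := h2.eq
    calc (b : X) * g * (b : X)⁻¹ * ((t : L) : X)
        = (b : X) * (g * ((b : X)⁻¹ * ((t : L) : X) * b)) * (b : X)⁻¹ := by group
      _ = (b : X) * ((b : X)⁻¹ * ((t : L) : X) * b * g) * (b : X)⁻¹ := by rw [h3]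
      _ = _ := by group
  have hcL : ⁅(b : X), a * v0 * a⁻¹⁆ ∈ L := by
    rw [commutatorElement_def, show (b : X) * (a * v0 * a⁻¹) * (b : X)⁻¹ * (a * v0 * a⁻¹)⁻¹ =
      (b : X) * ((a * v0 * a⁻¹) * (b : X)⁻¹ * (a * v0 * a⁻¹)⁻¹) by group]
    exact mul_mem b.2 ((inferInstance : L.Normal).conj_mem _ (inv_mem b.2) _)
  have hcH : ⁅(b : X), a * v0 * a⁻¹⁆ ∈ H2 := mul_mem (hbH _ hv) (inv_mem hv)
  have hco : Odd (orderOf ⁅(b : X), a * v0 * a⁻¹⁆) := by
    rw [commutatorElement_def]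
    refine Odd.of_dvd_nat ?_ ((hab2 _ (hbH _ hv) _ (inv_mem hv)).orderOf_mul_dvd_mul_orderOf)
    refine Odd.mul ?_ (by rwa [orderOf_inv])
    rwa [show (b : X) * (a * v0 * a⁻¹) * (b : X)⁻¹ = MulAut.conj (b : X) (a * v0 * a⁻¹) from rfl,
      MulEquiv.orderOf_eq]
  have h1 : (⟨_, hcL⟩ : L) = 1 := hnoodd ⟨_, hcL⟩ hcH (by rwa [Subgroup.orderOf_mk])
  have hbc : (b : X) ∈ H2 := by
    rw [← hcv, mem_cent]
    exact commutatorElement_eq_one_iff_mul_comm.1 (congrArg Subtype.val h1)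
  exact Subtype.ext (hab2 _ (hPH r hr) _ hbc).eq

/-- No subgroup of order `y` has a non-trivial central odd part. -/
theorem central_case (hd2 : d = 2) {H : Subgroup X} (hH : Nat.card H = y)
    (hodd : ∀ v ∈ H, Odd (orderOf v) → ∀ a ∈ H, Commute a v) {v0 : X} (hv0 : v0 ∈ H)
    (hv0o : Odd (orderOf v0)) (hv1 : v0 ≠ 1) : False := by
  have hcv : cent v0 = H := h.cent_eq_of_central hH hv0 hv1 (hodd v0 hv0 hv0o)
  have hhalf : ∀ w ∈ H, Half H (cent w) := by
    intro w hw
    obtain ⟨t, v, he, hc, ht, hv, htt, hvo⟩ := exists_parts Nat.prime_two w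
    have htH : t ∈ H := (zpowers_le.2 hw) ht
    have hvH : v ∈ H := (zpowers_le.2 hw) hv
    have hvodd : Odd (orderOf v) := Nat.odd_iff.2 (by omega)
    have := h.half_mul hd2 hH hv0 hcv hv0o hv1 htH htt
    intro a ha b hb
    have key : ∀ g ∈ H, (g ∈ cent w ↔ g ∈ cent t) := by
      intro g hg
      refine ⟨fun hgw => cent_le_of_mem_zpowers ht hgw, fun hgt => ?_⟩
      rw [mem_cent, he]
      exact ((show Commute g t from mem_cent.1 hgt).mul_right (hodd v hvH hvodd g hg)).eq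
    rw [key _ (mul_mem ha hb), key a ha, key b hb]
    exact this a ha b hb
  by_cases hab : ∀ a ∈ H, ∀ b ∈ H, ⁅a, b⁆ = 1
  · exact h.central_abelian_case hd2 hH
      (fun a ha b hb => commutatorElement_eq_one_iff_mul_comm.1 (hab a ha b hb)) hv0 hv0o hv1
  push Not at hab
  obtain ⟨a0, ha0, b0, hb0, hne⟩ := hab
  have hcH : ⁅a0, b0⁆ ∈ H := by
    rw [commutatorElement_def]
    exact mul_mem (mul_mem (mul_mem ha0 hb0) (inv_mem ha0)) (inv_mem hb0)
  have hcent : cent ⁅a0, b0⁆ = H :=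
    h.cent_eq_of_central hH hcH hne fun g hg => (comm_central hhalf ha0 hb0 hg).symm
  set c := ⁅a0, b0⁆ with hc_def
  have hord : ∃ k, orderOf c = 2 ^ k := by
    haveI := Fact.mk Nat.prime_two
    exact ⟨1, by rw [pow_one]; exact orderOf_eq_prime (by rw [pow_two]; exact comm_sq hhalf ha0 hb0) hne⟩
  have hiso : IsIsolated c := by
    intro g hg
    have ht : g * c * g⁻¹ ∈ H := hcent ▸ (mem_cent.2 hg.eq.symm : g * c * g⁻¹ ∈ cent c)
    have h1 : g⁻¹ * v0 * g ∈ H := by
      rw [← hcent, mem_cent]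
      have h2 : g * c * g⁻¹ * v0 = v0 * (g * c * g⁻¹) := (hodd v0 hv0 hv0o _ ht).eq
      calc g⁻¹ * v0 * g * c = g⁻¹ * (v0 * (g * c * g⁻¹)) * g := by group
        _ = g⁻¹ * (g * c * g⁻¹ * v0) * g := by rw [h2]
        _ = _ := by group
    have h2 : Odd (orderOf (g⁻¹ * v0 * g)) := by
      rwa [show g⁻¹ * v0 * g = MulAut.conj g⁻¹ v0 by simp, MulEquiv.orderOf_eq]
    have h3 : cent (g⁻¹ * v0 * g) = H := h.cent_eq_of_central hH h1
      (fun e => hv1 (by simpa using conj_eq_one_iff.1 (show g⁻¹ * v0 * g⁻¹⁻¹ = 1 by rwa [inv_inv])))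
      (hodd _ h1 h2)
    have h4 : ∀ b ∈ H, g * b * g⁻¹ ∈ H := by
      intro b hb
      rw [← hcv, show v0 = g * (g⁻¹ * v0 * g) * g⁻¹ by group, cent_conj]
      exact ⟨b, h3.symm ▸ hb, rfl⟩
    have h5 : g * c * g⁻¹ = ⁅g * a0 * g⁻¹, g * b0 * g⁻¹⁆ := by
      rw [hc_def]; exact map_commutatorElement (MulAut.conj g).toMonoidHom a0 b0
    rw [h5]
    refine comm_unique hhalf (h4 _ ha0) (h4 _ hb0) ha0 hb0 (fun e => hne ?_) hne
    exact conj_eq_one_iff.1 (h5.trans e)
  have h1 := ZStar.zStar_pElement ZStar.uniqueInvolution hord hiso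
  have h2 : c ∈ center X := mem_center_iff.2 fun g => by
    have h3 := h1 g
    rw [h.oddCore_eq_bot, mem_bot, mul_inv_eq_one, mul_inv_eq_iff_eq_mul] at h3
    exact h3
  rw [h.center_eq_bot, mem_bot] at h2
  exact hne h2

end XHyp

end Cfsg.Agent.PSLClassSizes
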