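import Cfsg.Agent.Lib.PSLClassSizes.Odd
import Cfsg.Agent.Lib.HallOrders.Basic

/-!
# Class sizes of `PSL(2,q)`: the quotient for odd `q`

* `exists_psl_odd`
-/

open Subgroup

set_option autoImplicit false
set_option linter.unusedSectionVars false

namespace Cfsg.Agent.PSLClassSizes

open ThreeSizes

universe u

variable {X : Type u} [Group X] [Finite X]

/-- centralizer of one element -/
local notation "cent" x:max => Subgroup.centralizer ({x} : Set _)

theorem no_double {p n q Q : ℕ} (hp : p.Prime) (hp2 : p ≠ 2) (hq : q = p ^ n) (h7 : 7 ≤ q) (hQ : 2 ≤ Q)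
    (e : 2 * Q ^ 3 + q = q ^ 3 + 2 * Q) : False := by
  have hlt : Q < q := by
    by_contra hc
    push Not at hc
    nlinarith [Nat.pow_le_pow_left hc 3, Nat.mul_le_mul (Nat.mul_le_mul h7 h7) (le_refl q),
      Nat.mul_le_mul (Nat.mul_le_mul hQ hQ) (le_refl Q)]
  obtain ⟨b, rfl⟩ : ∃ b, Q = b + 1 := ⟨Q - 1, by omega⟩
  obtain ⟨a, ha⟩ : ∃ a, q = a + 1 := ⟨q - 1, by omega⟩
  have he : (2 * (b + 1)) * (b * (b + 2)) = q * (a * (a + 2)) := by subst ha; linarith
  have hd : p ^ n ∣ (2 * (b + 1)) * (b * (b + 2)) := he ▸ hq ▸ dvd_mul_right _ _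
  have hp' : ¬ p ∣ 2 := fun hd2 => hp2 ((Nat.prime_dvd_prime_iff_eq hp Nat.prime_two).1 hd2)
  by_cases hpQ : p ∣ b + 1
  · have hn : ¬ p ∣ b * (b + 2) := fun hd' => by
      rcases hp.dvd_mul.1 hd' with e1 | e1
      · exact hp.not_dvd_one ((Nat.dvd_add_right e1).1 hpQ)
      · exact hp.not_dvd_one ((Nat.dvd_add_right hpQ).1 e1)
    have h1 : p ^ n ∣ b + 1 :=
      ((hp.coprime_iff_not_dvd.2 hp').pow_left n).dvd_of_dvd_mul_left
        (((hp.coprime_iff_not_dvd.2 hn).pow_left n).dvd_of_dvd_mul_right hd)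
    have := Nat.le_of_dvd (by omega) h1
    omega
  · have h0 : p ^ n ∣ b * (b + 2) :=
      ((hp.coprime_iff_not_dvd.2 (fun hd' => (hp.dvd_mul.1 hd').elim hp' hpQ)).pow_left n).dvd_of_dvd_mul_left hd
    have hle : p ^ n ≤ b + 2 := by
      by_cases hb : p ∣ b
      · have hn : ¬ p ∣ b + 2 := fun e1 => hp' ((Nat.dvd_add_right hb).1 e1)
        have := Nat.le_of_dvd (by omega) (((hp.coprime_iff_not_dvd.2 hn).pow_left n).dvd_of_dvd_mul_right h0)
        omega
      · exact Nat.le_of_dvd (by omega) (((hp.coprime_iff_not_dvd.2 hb).pow_left n).dvd_of_dvd_mul_left h0)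
    obtain rfl : a = b + 1 := by omega
    rw [ha] at he
    obtain ⟨c, rfl⟩ : ∃ c, b = c + 4 := ⟨b - 4, by omega⟩
    nlinarith [Nat.zero_le (c * c * c), Nat.zero_le (c * c)]

theorem exists_psl_odd {q y z p n : ℕ} (hp : p.Prime) (hp2 : p ≠ 2) (hq : q = p ^ n) (h7 : 7 ≤ q)
    (hcase : (q = y + 1 ∧ 2 * z = y + 2) ∨ (q + 1 = y ∧ 2 * z + 2 = y))
    (h : XHyp X q y z 2) {F : Type*} [Field F] [Finite F] (hF : Nat.card F = q) :
    Nonempty (X ≃* Matrix.ProjectiveSpecialLinearGroup (Fin 2) F) := by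
  haveI := Fintype.ofFinite F
  have hqo : Odd q := hq ▸ (hp.odd_of_ne_two hp2).pow
  have hcard : 2 * Nat.card X + q = q ^ 3 := by
    rw [h.card_eq]
    rcases hcase with ⟨e1, e2⟩ | ⟨e1, e2⟩
    · subst e1
      calc 2 * ((y + 1) * y * z) + (y + 1) = (y + 1) * y * (2 * z) + (y + 1) := by ring
        _ = _ := by rw [e2]; ring
    · subst e1
      obtain rfl : q = 2 * z + 1 := by omega
      ring
  have finish : ∀ (K : Type) [Field K] [Fintype K],
      Nonempty (X ≃* Matrix.ProjectiveSpecialLinearGroup (Fin 2) K) → Odd (Nat.card K) →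
      Nonempty (X ≃* Matrix.ProjectiveSpecialLinearGroup (Fin 2) F) := by
    intro K _ _ ⟨e⟩ hK
    have h1 := card_psl_odd (K := K) hK
    rw [← Nat.card_congr e.toEquiv] at h1
    have h2 : q = Nat.card K := cube_inj (by omega) Finite.card_pos (by omega)
    refine ⟨e.trans (Linear.pslMapEquiv (FiniteField.ringEquivOfCardEq ?_))⟩
    rw [← Nat.card_eq_fintype_card, ← Nat.card_eq_fintype_card, hF, ← h2]
  rcases h.dGroup_or_twoGroup rfl with ⟨a, ha⟩ | ⟨H, A, hAH, hD, hH, hC⟩
  · haveI := Fact.mk Nat.prime_two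
    have hyn : ∀ (r : ℕ), r.Prime → r ∣ y → ∀ v : X, v ≠ 1 → IsElt r v → Group.IsNilpotent (cent v) := by
      intro r hr hry v hv hvr
      have hrv : r ∣ orderOf v := by
        obtain ⟨j, hj⟩ := hvr
        rw [hj]
        refine dvd_pow_self r ?_
        rintro rfl
        exact hv (orderOf_eq_one_iff.1 (by rw [hj, pow_zero]))
      have hd : Nat.card (cent v) ∣ 2 ^ a := by
        rw [← ha]
        rcases h.cent_y r hr hry v hrv with e | e <;> rw [← e]
        exact dvd_mul_left _ _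
      obtain ⟨b, -, hb⟩ := (Nat.dvd_prime_pow Nat.prime_two).1 hd
      exact (IsPGroup.of_card hb).isNilpotent
    rcases h.cnCases hyn with ⟨K, iK, iK', hK, he⟩ | e | e | ⟨m, hm, e⟩
    · rcases hK with h9 | ⟨k, hk, hK⟩ | ⟨hodd, -, -⟩
      · exact finish K he (h9 ▸ (by decide))
      · exfalso
        obtain ⟨e⟩ := he
        have h1 := card_psl_even (K := K) (hK ▸ Nat.even_pow.2 ⟨even_two, by omega⟩)
        rw [← Nat.card_congr e.toEquiv] at h1
        have hqa : q = 2 ^ a + 1 ∨ q + 1 = 2 ^ a := by rcases hcase with ⟨e1, -⟩ | ⟨e1, -⟩ <;> omega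
        have := psl_mixed_arith (q := Nat.card K) (Q := q) hK hk hqa (by omega)
        omega
      · exact finish K he hodd
    · exfalso
      rw [e] at hcard
      rcases Nat.lt_or_ge q 35 with h5 | h5
      · nlinarith [Nat.pow_le_pow_left (show q ≤ 34 by omega) 3]
      · nlinarith [Nat.pow_le_pow_left h5 3, Nat.mul_le_mul h5 h5]
    · exfalso
      rw [e] at hcard
      rcases Nat.lt_or_ge q 12 with h5 | h5
      · nlinarith [Nat.pow_le_pow_left (show q ≤ 11 by omega) 3]
      · nlinarith [Nat.pow_le_pow_left h5 3, Nat.mul_le_mul h5 h5]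
    · exfalso
      rw [h.card_eq] at e
      set Q := 2 ^ (2 * m + 1) with hQ
      have hQ8 : 8 ≤ Q := by
        rw [hQ]; exact (show 2 ^ 3 ≤ 2 ^ (2 * m + 1) from Nat.pow_le_pow_right two_pos (by omega))
      have hQe : Even Q := by rw [hQ]; exact Nat.even_pow.2 ⟨even_two, by omega⟩
      have hz : Odd z := by
        rw [← Nat.coprime_two_left]
        refine Nat.Coprime.coprime_dvd_left ?_ h.cyz
        rcases h.hd with e' | ⟨-, e'⟩
        · omega
        · exact (by norm_num : 2 ∣ 4).trans e'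
      have h1 : y = Q ^ 2 := by
        rw [ha, hQ, ← pow_mul]
        refine pow_two_unique (u := q * z) (v := (Q ^ 2 + 1) * (Q - 1)) (hqo.mul hz)
          ((Nat.even_pow.2 ⟨hQe, two_ne_zero⟩).add_one.mul (Nat.Even.sub_odd (by omega) hQe odd_one)) ?_
        rw [← ha, pow_mul, ← hQ, ← mul_assoc, mul_comm y q, ← mul_assoc]
        exact e
      subst h1
      clear_value Q
      obtain ⟨b, hb⟩ : ∃ b, Q = b + 8 := ⟨Q - 8, by omega⟩
      rw [show Q - 1 = b + 7 by omega] at e
      have e' : q * z = (Q ^ 2 + 1) * (b + 7) :=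
        Nat.eq_of_mul_eq_mul_left (show 0 < Q ^ 2 by positivity) (by linarith)
      rcases hcase with ⟨e1, e2⟩ | ⟨e1, e2⟩
      · subst e1
        have : z = b + 7 := Nat.eq_of_mul_eq_mul_left (Nat.succ_pos _) e'
        subst this hb
        nlinarith
      · subst hb
        nlinarith [Nat.zero_le (b * b * b * b), Nat.zero_le (b * b * b), Nat.zero_le (b * b)]
  · have h4 : 4 ∣ Nat.card H := by
      rw [hH]
      rcases h.hd with e | ⟨-, e⟩
      · omega
      · exact e
    obtain ⟨N, hNn, hN, K, iK, iK', hK3, hiso⟩ := S3322.result H A hAH hD h4 hC h.ns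
    have hNs : Group.IsSolvable N := HallOrders.solvable_of_not_four_dvd (by
      rcases hN with ho | ⟨m, hm, e⟩
      · exact fun e => Nat.not_even_iff_odd.2 ho (even_iff_two_dvd.2 ((by norm_num : 2 ∣ 4).trans e))
      · rw [e]; intro e4; rw [Nat.odd_iff] at hm; omega)
    have hNb := h.noSolv N hNn hNs
    let φ : X ≃* X ⧸ N := QuotientGroup.quotientBot.symm.trans (QuotientGroup.quotientMulEquivOfEq hNb.symm)
    rw [← Nat.card_eq_fintype_card] at hK3
    rcases hiso with ⟨⟨e⟩⟩ | ⟨⟨e⟩⟩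
    · rcases Nat.even_or_odd (Nat.card K) with he | ho
      · exfalso
        have h1 := card_psl_even (K := K) he
        rw [← Nat.card_congr (φ.trans e).toEquiv] at h1
        exact no_double hp hp2 hq h7 (Q := Nat.card K) (by omega) (by omega)
      · exact finish K ⟨φ.trans e⟩ ho
    · exfalso
      have h1 := Nat.card_congr (φ.trans e).toEquiv
      rw [GLOrder.card_PGL_two] at h1
      obtain ⟨a, ha⟩ := Nat.exists_eq_add_of_le (Nat.one_le_pow 2 (Nat.card K) Finite.card_pos)
      rw [ha, Nat.add_sub_cancel_left] at h1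
      have h2 : Nat.card X + Nat.card K = Nat.card K ^ 3 := by
        rw [h1, pow_succ' (Nat.card K) 2, ha]; ring
      exact no_double hp hp2 hq h7 (Q := Nat.card K) (by omega) (by omega)

end Cfsg.Agent.PSLClassSizes
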