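import Cfsg.Agent.Lib.PSLClassSizes.Count
import Cfsg.Agent.Lib.OddOrderTheorem.Basic
import Cfsg.Agent.Lib.FittingLength.Coprime
import Cfsg.Agent.Lib.Cores.Fitting

/-!
# Class sizes of `PSL(2,q)`: the central quotient

* `XHyp`: what the class sizes give for the quotient `X = G / Z(G)`
* `Hyp.xhyp`
-/

open Subgroup
open scoped commutatorElement Pointwise

set_option autoImplicit false
set_option linter.unusedSectionVars false

namespace Cfsg.Agent.PSLClassSizes

open ThreeSizes

universe u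

variable {G : Type u} [Group G] [Finite G]

/-- centralizer of one element -/
local notation "cent" x:max => Subgroup.centralizer ({x} : Set _)

/-- the class size of an element -/
local notation "ix" g:max => Subgroup.index (Subgroup.centralizer ({g} : Set _))

/-- What the class sizes give for the central quotient. -/
structure XHyp (X : Type u) [Group X] (x y z d : ℕ) : Prop where
  hx : 3 ≤ x
  hy : 3 ≤ y
  hz : 3 ≤ z
  cxy : x.Coprime y
  cxz : x.Coprime z
  cyz : y.Coprime z
  hd : d = 1 ∨ (d = 2 ∧ 4 ∣ y)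
  card_eq : Nat.card X = x * y * z
  cent_x : ∀ (r : ℕ), r.Prime → r ∣ x → ∀ v : X, v ≠ 1 → IsElt r v →
    Nat.card (cent v) = x ∧ Group.IsNilpotent (cent v)
  cent_z : ∀ (r : ℕ), r.Prime → r ∣ z → ∀ v : X, v ≠ 1 → IsElt r v →
    Nat.card (cent v) = z ∧ Group.IsNilpotent (cent v)
  cent_y : ∀ (r : ℕ), r.Prime → r ∣ y → ∀ v : X, r ∣ orderOf v →
    Nat.card (cent v) = y ∨ d * Nat.card (cent v) = y
  nil_y : d = 1 → ∀ (r : ℕ), r.Prime → r ∣ y → ∀ v : X, v ≠ 1 → IsElt r v →
    Group.IsNilpotent (cent v)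
  noSolv : ∀ S : Subgroup X, S.Normal → Group.IsSolvable S → S = ⊥
  ns : ¬ Group.IsSolvable X

/-- The image in the central quotient. -/
local notation "π" => QuotientGroup.mk' (center G)

theorem map_cent_le (g : G) : (cent g).map π ≤ cent (π g) := by
  rintro _ ⟨a, ha, rfl⟩
  rw [mem_cent, ← map_mul, ← map_mul, mem_cent.1 ha]

theorem card_map_cent (g : G) :
    Nat.card ((cent g).map π) * ix g = (center G).index := by
  have h1 := ((cent g).map π).card_mul_index
  rw [Subgroup.index_map_eq _ (QuotientGroup.mk'_surjective _)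
    (by rw [QuotientGroup.ker_mk']; exact center_le_cent g), ← Subgroup.index_eq_card] at h1
  exact h1

/-- Centralisers grow by an `r`-power in the quotient. -/
theorem card_cent_image {r : ℕ} (hr : r.Prime) {g : G} (hg : IsElt r g) :
    ∃ k : ℕ, Nat.card (cent (π g)) = Nat.card ((cent g).map π) * r ^ k := by
  haveI := Fact.mk hr
  set D : Subgroup G := (cent (π g)).comap π with hD
  have hcomm : ∀ a : D, ⁅(a : G), g⁆ ∈ center G := fun a => by
    refine (QuotientGroup.eq_one_iff _).1 ?_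
    show π ⁅(a : G), g⁆ = 1
    rw [map_commutatorElement, commutatorElement_eq_one_iff_mul_comm]
    exact mem_cent.1 (mem_comap.1 a.2)
  let φ : D →* center G := MonoidHom.mk' (fun a => ⟨⁅(a : G), g⁆, hcomm a⟩) fun a b => Subtype.ext (by
    show ⁅(a : G) * b, g⁆ = ⁅(a : G), g⁆ * ⁅(b : G), g⁆
    rw [commutatorElement_mul_left_eq_conj_mul, mem_center_iff.1 (hcomm b) (a : G),
      mul_inv_cancel_right]
    exact (mem_center_iff.1 (hcomm b) _).symm)
  have hker : φ.ker = (cent g).subgroupOf D := by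
    ext a
    rw [MonoidHom.mem_ker, mem_subgroupOf, mem_cent, ← commutatorElement_eq_one_iff_mul_comm]
    exact ⟨fun h => congrArg Subtype.val h, fun h => Subtype.ext h⟩
  have hrange : IsPGroup r φ.range := by
    rintro ⟨_, a, rfl⟩
    obtain ⟨k, hk⟩ := hg.pow_eq_one
    refine ⟨k, Subtype.ext (Subtype.ext ?_)⟩
    show ⁅(a : G), g⁆ ^ r ^ k = 1
    have hc : Commute ⁅(a : G), g⁆ g := (mem_center_iff.1 (hcomm a) g).symm
    have e : ((a : G) * g * (a : G)⁻¹) ^ r ^ k = ⁅(a : G), g⁆ ^ r ^ k * g ^ r ^ k := by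
      rw [← hc.mul_pow, commutatorElement_def, inv_mul_cancel_right]
    rw [conj_pow, hk, mul_one, mul_inv_cancel, mul_one] at e
    exact e.symm
  obtain ⟨k, hk⟩ := IsPGroup.iff_card.1 hrange
  refine ⟨k, ?_⟩
  have hle : cent g ≤ D := fun a ha => map_cent_le g (mem_map_of_mem π ha)
  have h1 : ((cent g).subgroupOf D).index = r ^ k := by rw [← hker, Subgroup.index_ker, hk]
  have h2 := Subgroup.relIndex_mul_index hle
  rw [Subgroup.relIndex, h1, hD, Subgroup.index_comap_of_surjective _ (QuotientGroup.mk'_surjective _)] at h2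
  have h3 := (cent (π g)).card_mul_index
  have h4 := card_map_cent g
  rw [← Subgroup.index_eq_card, ← h4, ← h2, ← mul_assoc] at h3
  exact Nat.eq_of_mul_eq_mul_right (Nat.pos_of_ne_zero index_ne_zero_of_finite) h3

theorem exists_lift {r : ℕ} (hr : r.Prime) {v : G ⧸ center G} (hv : IsElt r v) :
    ∃ g : G, π g = v ∧ IsElt r g := by
  obtain ⟨g0, rfl⟩ := QuotientGroup.mk'_surjective (center G) v
  obtain ⟨u, w, hg, hc, -, hw, hu, hwr⟩ := exists_parts hr g0
  refine ⟨u, ?_, hu⟩
  have h1 : π w = 1 := by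
    rw [← orderOf_eq_one_iff]
    obtain ⟨k, hk⟩ := hv
    have hd : orderOf (π w) ∣ r ^ k := by
      obtain ⟨i, rfl⟩ := mem_zpowers_iff.1 hw
      rw [map_zpow, ← hk]
      exact orderOf_dvd_of_mem_zpowers (zpow_mem (mem_zpowers _) i)
    exact Nat.eq_one_of_dvd_coprimes ((hr.coprime_iff_not_dvd.2 hwr).pow_left k) hd
      (orderOf_map_dvd π w)
  rw [hg, map_mul, h1, mul_one]

theorem nilpotent_image {t : ℕ} (ht : t.Prime) {g : G} {m : ℕ} (hm : IsolatedSize G m)
    (hg : IsElt t g) (hi : ix g = m) : Group.IsNilpotent ((cent g).map π) := by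
  haveI := Fact.mk ht
  rcases dichotomy ht hm hg hi with hab | hcen
  · haveI : IsMulCommutative ((cent g).map π) := ⟨⟨fun a b => by
      obtain ⟨a0, ha0, ha⟩ := a.2
      obtain ⟨b0, hb0, hb⟩ := b.2
      refine Subtype.ext ?_
      show (a : G ⧸ center G) * b = b * a
      rw [← ha, ← hb, ← map_mul, ← map_mul, (hab a0 ha0 b0 hb0).eq]⟩⟩
    exact Cores.isNilpotent_of_isMulCommutative _
  · refine IsPGroup.isNilpotent (p := t) ?_
    rintro ⟨_, a, ha, rfl⟩
    obtain ⟨u, w, he, -, -, hw, hu, hwt⟩ := exists_parts ht a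
    have hwz := hcen w ((zpowers_le.2 ha) hw) hwt
    obtain ⟨k, hk⟩ := hu.pow_eq_one
    refine ⟨k, Subtype.ext ?_⟩
    show π a ^ t ^ k = 1
    rw [he, map_mul, show π w = 1 from (QuotientGroup.eq_one_iff w).2 hwz, mul_one, ← map_pow, hk,
      map_one]

theorem nilpotent_of_card {t : ℕ} (ht : t.Prime) {g : G} {m : ℕ} (hm : IsolatedSize G m)
    (hg : IsElt t g) (hi : ix g = m) (hc : Nat.card (cent (π g)) = Nat.card ((cent g).map π)) :
    Group.IsNilpotent (cent (π g)) := by
  rw [← eq_of_le_of_card_ge (map_cent_le g) hc.le]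
  exact nilpotent_image ht hm hg hi

namespace Hyp

variable {x y z d : ℕ} (h : Hyp G x y z d)
include h

theorem card_quot : Nat.card (G ⧸ center G) = x * y * z := by
  rw [← h.index_center, Subgroup.index_eq_card]

/-- The class size of a non-central `r`-element. -/
theorem size_of_elt {r : ℕ} (hr : r.Prime) {g : G} (hg : g ∉ center G) (hgr : IsElt r g) :
    (r ∣ x → ix g = y * z) ∧ (r ∣ z → ix g = x * y) ∧
      (r ∣ y → ix g = x * z ∨ ix g = d * (x * z)) := by
  have hlt := factorization_lt hr hg hgr (center_le_cent g) (self_mem g)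
  rw [h.index_center] at hlt
  have hx := h.hx; have hy := h.hy; have hz := h.hz; have hd := h.d_pos
  have e3 : ∀ {a b c : ℕ}, a ≠ 0 → b ≠ 0 → c ≠ 0 →
      (a * b * c).factorization r = a.factorization r + b.factorization r + c.factorization r := by
    intro a b c ha hb hc
    rw [Nat.factorization_mul (mul_ne_zero ha hb) hc, Nat.factorization_mul ha hb]; rfl
  have e2 : ∀ {a b : ℕ}, a ≠ 0 → b ≠ 0 →
      (a * b).factorization r = a.factorization r + b.factorization r := by
    intro a b ha hb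
    rw [Nat.factorization_mul ha hb]; rfl
  have z0 : ∀ {a b : ℕ}, a.Coprime b → r ∣ a → b.factorization r = 0 := fun hc ha =>
    Nat.factorization_eq_zero_of_not_dvd fun hb => hr.ne_one (Nat.eq_one_of_dvd_coprimes hc ha hb)
  rw [e3 (by omega) (by omega) (by omega)] at hlt
  have h1 : ix g ≠ 1 := fun e => hg (index_eq_one_iff.1 e)
  rcases h.mem g with e | e | e | e | e
  · exact absurd e h1
  all_goals rw [e] at hlt ⊢; simp only [e2, Nat.mul_ne_zero_iff, ne_eq, not_false_eq_true,
    show x ≠ 0 by omega, show y ≠ 0 by omega, show z ≠ 0 by omega, show d ≠ 0 by omega,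
    and_self] at hlt
  all_goals refine ⟨fun hr' => ?_, fun hr' => ?_, fun hr' => ?_⟩
  all_goals first
    | exact rfl
    | exact Or.inl rfl
    | exact Or.inr rfl
    | (exfalso; have := z0 h.cxy hr'; have := z0 h.cxz hr'; omega)
    | (exfalso; have := z0 h.cxz.symm hr'; have := z0 h.cyz.symm hr'; omega)
    | (exfalso; have := z0 h.cxy.symm hr'; have := z0 h.cyz hr'; omega)

theorem cent_image_simple {r : ℕ} (hr : r.Prime) {g : G} (hgr : IsElt r g) {a b : ℕ} (ha : r ∣ a)
    (hab : x * y * z = a * b) (hc : a.Coprime b) (hi : ix g = b) :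
    Nat.card (cent (π g)) = Nat.card ((cent g).map π) ∧ Nat.card (cent (π g)) = a := by
  have h1 := card_map_cent g
  rw [h.index_center, hi, hab] at h1
  have hb : 0 < b := hi ▸ Nat.pos_of_ne_zero index_ne_zero_of_finite
  have h2 := Nat.eq_of_mul_eq_mul_right hb h1
  obtain ⟨k, hk⟩ := card_cent_image hr hgr
  have h3 : Nat.card (cent (π g)) ∣ a * b := hab ▸ h.card_quot ▸ card_subgroup_dvd_card _
  rw [hk, h2] at h3 ⊢
  have h4 : r ^ k ∣ b := by
    refine Nat.dvd_of_mul_dvd_mul_left ?_ h3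
    rcases Nat.eq_zero_or_pos a with rfl | ha0
    · have hx := h.hx; have hy := h.hy; have hz := h.hz
      rw [zero_mul] at hab
      nlinarith [Nat.mul_pos (Nat.mul_pos (show 0 < x by omega) (show 0 < y by omega)) (show 0 < z by omega)]
    · exact ha0
  have h5 : r ^ k = 1 :=
    Nat.eq_one_of_dvd_coprimes ((Nat.Coprime.coprime_dvd_left ha hc).pow_left k) (dvd_refl _) h4
  rw [h5, mul_one]
  exact ⟨rfl, rfl⟩

theorem lift_noncentral {r : ℕ} (hr : r.Prime) {v : G ⧸ center G} (hv : v ≠ 1) (hvr : IsElt r v) :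
    ∃ g : G, π g = v ∧ IsElt r g ∧ g ∉ center G := by
  obtain ⟨g, hg, hgr⟩ := exists_lift hr hvr
  exact ⟨g, hg, hgr, fun hc => hv (hg ▸ (QuotientGroup.eq_one_iff g).2 hc)⟩

theorem cent_y_elt {r : ℕ} (hr : r.Prime) (hry : r ∣ y) {g : G} (hg : g ∉ center G) (hgr : IsElt r g) :
    (y ∣ d * Nat.card ((cent g).map π)) ∧ Nat.card (cent (π g)) ∣ y := by
  have hxz : 0 < x * z := Nat.mul_pos (by have := h.hx; omega) (by have := h.hz; omega)
  have h1 := card_map_cent g
  rw [h.index_center] at h1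
  obtain ⟨k, hk⟩ := card_cent_image hr hgr
  have h3 : Nat.card (cent (π g)) ∣ y * (x * z) := by
    rw [show y * (x * z) = x * y * z by ring, ← h.card_quot]; exact card_subgroup_dvd_card _
  have hdvd : Nat.card ((cent g).map π) ∣ y ∧ y ∣ d * Nat.card ((cent g).map π) := by
    rcases (h.size_of_elt hr hg hgr).2.2 hry with e | e <;> rw [e] at h1
    · have h2 : Nat.card ((cent g).map π) = y :=
        Nat.eq_of_mul_eq_mul_right hxz (h1.trans (by ring))
      rw [h2]; exact ⟨dvd_rfl, dvd_mul_left _ _⟩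
    · have h2 : d * Nat.card ((cent g).map π) = y :=
        Nat.eq_of_mul_eq_mul_right hxz ((show _ = _ by ring).trans (h1.trans (by ring)))
      rw [← h2]; exact ⟨dvd_mul_left _ _, dvd_rfl⟩
  refine ⟨hdvd.2, ?_⟩
  have hcop : (Nat.card (cent (π g))).Coprime (x * z) := by
    rw [hk]
    exact ((Nat.Coprime.coprime_dvd_left hdvd.1 (h.cxy.symm.mul_right h.cyz))).mul_left
      ((Nat.Coprime.coprime_dvd_left hry (h.cxy.symm.mul_right h.cyz)).pow_left k)
  exact hcop.dvd_of_dvd_mul_right h3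

theorem cent_y_quot {r : ℕ} (hr : r.Prime) (hry : r ∣ y) {v : G ⧸ center G} (hv : r ∣ orderOf v) :
    Nat.card (cent v) = y ∨ d * Nat.card (cent v) = y := by
  obtain ⟨g0, rfl⟩ := QuotientGroup.mk'_surjective (center G) v
  obtain ⟨u, w, he, hc, hu0, -, hu, hwr⟩ := exists_parts hr g0
  have hw1 : ¬ r ∣ orderOf (π w) := fun hd => hwr (hd.trans (orderOf_map_dvd π w))
  have hu1 : u ∉ center G := fun hz => by
    rw [he, map_mul, show π u = 1 from (QuotientGroup.eq_one_iff u).2 hz, one_mul] at hv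
    exact hw1 hv
  obtain ⟨hlo, hup⟩ := h.cent_y_elt hr hry hu1 hu
  have hxz : 0 < x * z := Nat.mul_pos (by have := h.hx; omega) (by have := h.hz; omega)
  have hle : cent (π g0) ≤ cent (π u) := by
    obtain ⟨i, hi⟩ := mem_zpowers_iff.1 hu0
    exact cent_le_of_mem_zpowers ⟨i, by simp [← hi]⟩
  have hcd : Nat.card (cent (π g0)) ∣ y := (card_dvd_of_le hle).trans hup
  have hdiv : x * z ∣ ix g0 := by
    refine Dvd.dvd.trans ?_ (Subgroup.index_dvd_of_le (cent_le_of_mem_zpowers hu0))
    rcases (h.size_of_elt hr hu1 hu).2.2 hry with e | e <;> rw [e]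
    exact dvd_mul_left _ _
  have hsz : ix g0 = x * z ∨ ix g0 = d * (x * z) := by
    have hx := h.hx; have hy := h.hy; have hz := h.hz
    rcases h.mem g0 with e | e | e | e | e <;> rw [e] at hdiv ⊢
    · nlinarith [Nat.le_of_dvd one_pos hdiv]
    · have := Nat.eq_one_of_dvd_coprimes (h.cxy.mul_right h.cxz) (dvd_refl x)
        ((dvd_mul_right x z).trans hdiv)
      omega
    · have := Nat.eq_one_of_dvd_coprimes (h.cxz.symm.mul_right h.cyz.symm) (dvd_refl z)
        ((dvd_mul_left z x).trans hdiv)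
      omega
    · exact Or.inl rfl
    · exact Or.inr rfl
  have h1 := card_map_cent g0
  rw [h.index_center] at h1
  have hlow : y ∣ d * Nat.card (cent (π g0)) := by
    refine Dvd.dvd.trans ?_ (mul_dvd_mul_left d (card_dvd_of_le (map_cent_le g0)))
    rcases hsz with e | e <;> rw [e] at h1
    · rw [Nat.eq_of_mul_eq_mul_right hxz (h1.trans (show x * y * z = y * (x * z) by ring))]
      exact dvd_mul_left _ _
    · exact dvd_of_eq (Nat.eq_of_mul_eq_mul_right hxz
        ((show _ = _ by ring).trans (h1.trans (show x * y * z = y * (x * z) by ring)))).symm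
  rcases h.hd with e | ⟨e, -⟩
  · rw [e, one_mul] at hlow ⊢; exact Or.inl (Nat.dvd_antisymm hcd hlow)
  · rw [e] at hlow ⊢
    obtain ⟨a, ha⟩ := hcd
    have hc0 : 0 < Nat.card (cent (π g0)) := Nat.card_pos
    have : a ∣ 2 := by
      refine Nat.dvd_of_mul_dvd_mul_left hc0 ?_
      rw [← ha, mul_comm _ 2]; exact hlow
    rcases (Nat.dvd_prime Nat.prime_two).1 this with ea | ea <;> rw [ea] at ha
    · left; rw [ha, mul_one]
    · right; rw [ha, mul_comm]

theorem class_lt {M : Subgroup (G ⧸ center G)} [hM : M.Normal] {v : G ⧸ center G} (hv : v ∈ M)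
    (hv1 : v ≠ 1) : (cent v).index < Nat.card M := by
  classical
  have hf : ∀ c : (G ⧸ center G) ⧸ (cent v), c.out * v * c.out⁻¹ ∈ M := fun c => hM.conj_mem v hv c.out
  let f : Option ((G ⧸ center G) ⧸ (cent v)) → M := fun c =>
    match c with
    | none => 1
    | some c => ⟨_, hf c⟩
  have hinj : Function.Injective f := by
    rintro (_ | a) (_ | b) e
    · rfl
    · exact absurd (congrArg Subtype.val e).symm (fun e => hv1 (conj_eq_one_iff.1 e))
    · exact absurd (congrArg Subtype.val e) (fun e => hv1 (conj_eq_one_iff.1 e))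
    · refine congrArg some ?_
      have e' : a.out * v * a.out⁻¹ = b.out * v * b.out⁻¹ := congrArg Subtype.val e
      rw [← QuotientGroup.out_eq' a, ← QuotientGroup.out_eq' b, QuotientGroup.eq, mem_cent]
      calc a.out⁻¹ * b.out * v = a.out⁻¹ * (b.out * v * b.out⁻¹) * b.out := by group
        _ = a.out⁻¹ * (a.out * v * a.out⁻¹) * b.out := by rw [e']
        _ = _ := by group
  have := Nat.card_le_card_of_injective f hinj
  rw [Finite.card_option, ← Subgroup.index_eq_card] at this
  omega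

theorem noSolv (S : Subgroup (G ⧸ center G)) (hS : S.Normal) (hsol : Group.IsSolvable S) : S = ⊥ := by
  by_contra hne
  obtain ⟨V, hVn, hVS, hV, hmin⟩ : ∃ V : Subgroup (G ⧸ center G), V.Normal ∧ V ≤ S ∧ V ≠ ⊥ ∧
      ∀ W : Subgroup (G ⧸ center G), W.Normal → W ≤ V → W ≠ ⊥ → W = V := by
    obtain ⟨V, hV, hmin⟩ := exists_minimal_of_wellFoundedLT
      (fun W : Subgroup (G ⧸ center G) => W.Normal ∧ W ≤ S ∧ W ≠ ⊥) ⟨S, hS, le_rfl, hne⟩
    exact ⟨V, hV.1, hV.2.1, hV.2.2, fun W hW hWV hW1 =>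
      le_antisymm hWV (hmin ⟨hW, hWV.trans hV.2.1, hW1⟩ hWV)⟩
  haveI := hVn
  have hVsol : Group.IsSolvable V :=
    haveI := hsol; Group.isSolvable_of_isSolvable_injective (Subgroup.inclusion_injective hVS)
  obtain ⟨-, r, hr, -, hVr⟩ := FittingLength.minimal_normal_abelian_pgroup hV hVsol hmin
  haveI := Fact.mk hr
  obtain ⟨v, hv, hv1⟩ := (Subgroup.bot_or_exists_ne_one V).resolve_left hV
  have hvr : IsElt r v := isElt_of_mem hVr hv
  obtain ⟨k, hk⟩ := IsPGroup.iff_card.1 hVr
  have hcl := h.class_lt hv hv1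
  have hmul := (cent v).card_mul_index
  rw [h.card_quot] at hmul
  have hVd : Nat.card V ∣ x * y * z := h.card_quot ▸ card_subgroup_dvd_card _
  have hk1 : r ∣ Nat.card V := by
    rw [hk]
    refine dvd_pow_self r ?_
    rintro rfl
    rw [pow_zero] at hk
    exact hV (card_eq_one.1 hk)
  have hside : ∀ a b : ℕ, r ∣ a → a.Coprime b → x * y * z = a * b → a < b →
      Nat.card (cent v) ≤ a → False := by
    intro a b hra hab e hlt hca
    have h1 : Nat.card V ∣ a := by
      rw [hk] at hVd ⊢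
      rw [e] at hVd
      exact ((Nat.Coprime.coprime_dvd_left hra hab).pow_left k).dvd_of_dvd_mul_right hVd
    have ha0 : 0 < a := lt_of_lt_of_le Nat.card_pos hca
    have hVa := Nat.le_of_dvd ha0 h1
    rw [e] at hmul
    nlinarith [Nat.mul_le_mul_right (cent v).index hca]
  rcases (Nat.Prime.dvd_mul hr).1 (hk1.trans hVd) with hxy | hrz
  · rcases (Nat.Prime.dvd_mul hr).1 hxy with hrx | hry
    · obtain ⟨g, rfl, hgr, hgc⟩ := h.lift_noncentral hr hv1 hvr
      exact hside x (y * z) hrx (h.cxy.mul_right h.cxz) (by ring) h.lt_x (h.cent_image_simple hr hgr hrx (by ring)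
        (h.cxy.mul_right h.cxz) ((h.size_of_elt hr hgc hgr).1 hrx)).2.le
    · refine hside y (x * z) hry (h.cxy.symm.mul_right h.cyz) (by ring) h.lt_y ?_
      have hrv : r ∣ orderOf v := by
        obtain ⟨j, hj⟩ := hvr
        rw [hj]
        refine dvd_pow_self r ?_
        rintro rfl
        exact hv1 (orderOf_eq_one_iff.1 (by rw [hj, pow_zero]))
      have := h.cent_y_quot hr hry hrv
      have := h.d_pos
      rcases ‹_ ∨ _› with e | e <;> nlinarith
  · obtain ⟨g, rfl, hgr, hgc⟩ := h.lift_noncentral hr hv1 hvr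
    exact hside z (x * y) hrz (h.cxz.symm.mul_right h.cyz.symm) (by ring) h.lt_z (h.cent_image_simple hr hgr hrz (by ring)
        (h.cxz.symm.mul_right h.cyz.symm) ((h.size_of_elt hr hgc hgr).2.1 hrz)).2.le

theorem xhyp : XHyp (G ⧸ center G) x y z d where
  hx := h.hx
  hy := h.hy
  hz := h.hz
  cxy := h.cxy
  cxz := h.cxz
  cyz := h.cyz
  hd := h.hd
  card_eq := h.card_quot
  cent_x r hr hrx v hv1 hvr := by
    obtain ⟨g, rfl, hgr, hgc⟩ := h.lift_noncentral hr hv1 hvr
    have hi := (h.size_of_elt hr hgc hgr).1 hrx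
    obtain ⟨e1, e2⟩ := h.cent_image_simple hr hgr hrx (by ring) (h.cxy.mul_right h.cxz) hi
    exact ⟨e2, nilpotent_of_card hr h.isolated_yz hgr hi e1⟩
  cent_z r hr hrz v hv1 hvr := by
    obtain ⟨g, rfl, hgr, hgc⟩ := h.lift_noncentral hr hv1 hvr
    have hi := (h.size_of_elt hr hgc hgr).2.1 hrz
    obtain ⟨e1, e2⟩ := h.cent_image_simple hr hgr hrz (by ring) (h.cxz.symm.mul_right h.cyz.symm) hi
    exact ⟨e2, nilpotent_of_card hr h.isolated_xy hgr hi e1⟩
  cent_y _ hr hry _ hv := h.cent_y_quot hr hry hv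
  nil_y hd1 r hr hry v hv1 hvr := by
    obtain ⟨g, rfl, hgr, hgc⟩ := h.lift_noncentral hr hv1 hvr
    have hi : ix g = x * z := by
      rcases (h.size_of_elt hr hgc hgr).2.2 hry with e | e
      · exact e
      · rw [e, hd1, one_mul]
    obtain ⟨e1, -⟩ := h.cent_image_simple hr hgr hry (by ring) (h.cxy.symm.mul_right h.cyz) hi
    exact nilpotent_of_card hr (h.isolated_xz hd1) hgr hi e1
  noSolv := h.noSolv
  ns hsol := by
    have := h.noSolv ⊤ inferInstance
      (haveI := hsol; inferInstance)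
    have h1 := congrArg (fun S : Subgroup (G ⧸ center G) => Nat.card S) this
    simp only [Subgroup.card_top, Subgroup.card_bot, h.card_quot] at h1
    have := h.hx; have := h.hy; have := h.hz
    nlinarith [Nat.mul_le_mul (Nat.mul_le_mul h.hx h.hy) h.hz]

end Hyp

end Cfsg.Agent.PSLClassSizes
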