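import Cfsg.Agent.Lib.PSLClassSizes.OddFinal
import Cfsg.Agent.Lib.PSL2.Centralizers

/-!
# Class sizes of `PSL(2,q)`: setting up

* `hyp_even`, `hyp_odd`: the hypothesis `Hyp` from the set of class sizes
* `quotient_iso_odd`, `quotient_iso_even`
-/

open Subgroup

set_option autoImplicit false
set_option linter.unusedSectionVars false

namespace Cfsg.Agent.PSLClassSizes

universe u v

variable {G : Type u} [Group G] [Finite G] {F : Type v} [Field F] [Finite F]

/-- the set of class sizes -/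
abbrev sizes (H : Type*) [Group H] : Set ℕ :=
  Set.range (fun g : H => Subgroup.index (Subgroup.centralizer ({g} : Set H)))

theorem coprime_succ (a : ℕ) : (a + 1).Coprime a := by simp

theorem coprime_of_dvd_two {a b : ℕ} (hb : ¬ 2 ∣ b) (h : Nat.gcd a b ∣ 2) : a.Coprime b :=
  ((Nat.dvd_prime Nat.prime_two).1 h).resolve_right fun e => hb (e ▸ Nat.gcd_dvd_right a b)

theorem hyp_even (h4 : 4 ≤ Nat.card F) (he : Even (Nat.card F))
    (h : sizes G = sizes (Matrix.ProjectiveSpecialLinearGroup (Fin 2) F)) :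
    Hyp G (Nat.card F) (Nat.card F - 1) (Nat.card F + 1) 1 := by
  unfold sizes at h
  rw [PSL2.class_sizes_even h4 he] at h
  set q := Nat.card F with hq
  clear_value q
  obtain ⟨a, rfl⟩ : ∃ a, q = a + 1 := ⟨q - 1, by omega⟩
  rw [Nat.add_sub_cancel] at h ⊢
  have hA : (a + 1) ^ 2 - 1 = a * (a + 1 + 1) := by
    rw [show (a + 1) ^ 2 = a * (a + 1 + 1) + 1 by ring, Nat.add_sub_cancel]
  rw [hA] at h
  have hev := Nat.even_iff.1 he
  have hget : ∀ m, m ∈ ({1, (a + 1) * a, a * (a + 1 + 1), (a + 1) * (a + 1 + 1)} : Set ℕ) →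
      ∃ g : G, (centralizer ({g} : Set G)).index = m := fun m hm => by
    rw [← h] at hm; exact hm
  refine ⟨by omega, by omega, by omega, coprime_succ a, (coprime_succ (a + 1)).symm, ?_, Or.inl rfl,
    fun g => ?_, hget _ (by simp), hget _ (by simp), hget _ (by simp), by nlinarith, by nlinarith,
    by nlinarith⟩
  · refine coprime_of_dvd_two (by omega) ?_
    have := Nat.dvd_sub (Nat.gcd_dvd_right a (a + 1 + 1)) (Nat.gcd_dvd_left a (a + 1 + 1))
    rwa [show a + 1 + 1 - a = 2 by omega] at this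
  · have hm : (centralizer ({g} : Set G)).index ∈
        Set.range (fun g : G => (centralizer ({g} : Set G)).index) := ⟨g, rfl⟩
    rw [h] at hm
    simp only [Set.mem_insert_iff, Set.mem_singleton_iff] at hm
    rcases hm with e | e | e | e <;> simp [e]

theorem hyp_odd (h7 : 7 ≤ Nat.card F) (ho : Odd (Nat.card F))
    (h : sizes G = sizes (Matrix.ProjectiveSpecialLinearGroup (Fin 2) F)) :
    ∃ y z, ((Nat.card F = y + 1 ∧ 2 * z = y + 2) ∨ (Nat.card F + 1 = y ∧ 2 * z + 2 = y)) ∧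
      Hyp G (Nat.card F) y z 2 := by
  unfold sizes at h
  obtain ⟨h1, h3⟩ := PSL2.class_sizes_odd h7 ho
  set q := Nat.card F with hq
  clear_value q
  have hodd := Nat.odd_iff.1 ho
  rcases (show q % 4 = 1 ∨ q % 4 = 3 by omega) with e4 | e4
  · rw [h1 e4] at h
    obtain ⟨m, rfl⟩ : ∃ m, q = 4 * m + 1 := ⟨q / 4, by omega⟩
    refine ⟨4 * m, 2 * m + 1, Or.inl ⟨rfl, by ring⟩, ?_⟩
    have e1 : ((4 * m + 1) ^ 2 - 1) / 2 = 4 * m * (2 * m + 1) := by
      rw [show (4 * m + 1) ^ 2 = 2 * (4 * m * (2 * m + 1)) + 1 by ring, Nat.add_sub_cancel,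
        Nat.mul_div_cancel_left _ two_pos]
    have e2 : (4 * m + 1) * (4 * m + 1 + 1) / 2 = (4 * m + 1) * (2 * m + 1) := by
      rw [show (4 * m + 1) * (4 * m + 1 + 1) = 2 * ((4 * m + 1) * (2 * m + 1)) by ring,
        Nat.mul_div_cancel_left _ two_pos]
    have e3 : (4 * m + 1) * (4 * m + 1 + 1) = 2 * ((4 * m + 1) * (2 * m + 1)) := by ring
    rw [e1, e2, Nat.add_sub_cancel, e3] at h
    have hget : ∀ k, k ∈ ({1, 4 * m * (2 * m + 1), (4 * m + 1) * (2 * m + 1), (4 * m + 1) * (4 * m),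
        2 * ((4 * m + 1) * (2 * m + 1))} : Set ℕ) → ∃ g : G, (centralizer ({g} : Set G)).index = k :=
      fun k hk => by rw [← h] at hk; exact hk
    refine ⟨by omega, by omega, by omega, coprime_succ _, ?_, ?_, Or.inr ⟨rfl, dvd_mul_right 4 m⟩,
      fun g => ?_, hget _ (by simp), hget _ (by simp), hget _ (by simp), by nlinarith, by nlinarith,
      by nlinarith⟩
    · refine coprime_of_dvd_two (by omega) ?_
      have := Nat.dvd_sub ((Nat.gcd_dvd_right (4 * m + 1) (2 * m + 1)).mul_left 2)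
        (Nat.gcd_dvd_left (4 * m + 1) (2 * m + 1))
      rw [show 2 * (2 * m + 1) - (4 * m + 1) = 1 by omega] at this
      exact this.trans (one_dvd 2)
    · refine coprime_of_dvd_two (by omega) ?_
      have := Nat.dvd_sub ((Nat.gcd_dvd_right (4 * m) (2 * m + 1)).mul_left 2)
        (Nat.gcd_dvd_left (4 * m) (2 * m + 1))
      rwa [show 2 * (2 * m + 1) - 4 * m = 2 by omega] at this
    · have hm : (centralizer ({g} : Set G)).index ∈
        Set.range (fun g : G => (centralizer ({g} : Set G)).index) := ⟨g, rfl⟩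
      rw [h] at hm
      simp only [Set.mem_insert_iff, Set.mem_singleton_iff] at hm
      rcases hm with e | e | e | e | e <;> simp [e]
  · rw [h3 e4] at h
    obtain ⟨m, rfl⟩ : ∃ m, q = 4 * m + 3 := ⟨q / 4, by omega⟩
    refine ⟨4 * m + 3 + 1, 2 * m + 1, Or.inr ⟨rfl, by ring⟩, ?_⟩
    have e1 : ((4 * m + 3) ^ 2 - 1) / 2 = (4 * m + 3 + 1) * (2 * m + 1) := by
      rw [show (4 * m + 3) ^ 2 = 2 * ((4 * m + 3 + 1) * (2 * m + 1)) + 1 by ring, Nat.add_sub_cancel,
        Nat.mul_div_cancel_left _ two_pos]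
    have e2 : (4 * m + 3) * (4 * m + 3 - 1) / 2 = (4 * m + 3) * (2 * m + 1) := by
      rw [show 4 * m + 3 - 1 = 2 * (2 * m + 1) by omega,
        show (4 * m + 3) * (2 * (2 * m + 1)) = 2 * ((4 * m + 3) * (2 * m + 1)) by ring,
        Nat.mul_div_cancel_left _ two_pos]
    have e3 : (4 * m + 3) * (4 * m + 3 - 1) = 2 * ((4 * m + 3) * (2 * m + 1)) := by
      rw [show 4 * m + 3 - 1 = 2 * (2 * m + 1) by omega]; ring
    rw [e1, e2, e3] at h
    have hget : ∀ k, k ∈ ({1, (4 * m + 3 + 1) * (2 * m + 1), (4 * m + 3) * (2 * m + 1),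
        (4 * m + 3) * (4 * m + 3 + 1), 2 * ((4 * m + 3) * (2 * m + 1))} : Set ℕ) →
        ∃ g : G, (centralizer ({g} : Set G)).index = k :=
      fun k hk => by rw [← h] at hk; exact hk
    refine ⟨by omega, by omega, by omega, (coprime_succ _).symm, ?_, ?_, Or.inr ⟨rfl, ⟨m + 1, by ring⟩⟩,
      fun g => ?_, hget _ (by simp), hget _ (by simp), hget _ (by simp), by nlinarith, by nlinarith,
      by nlinarith⟩
    · refine coprime_of_dvd_two (by omega) ?_
      have := Nat.dvd_sub (Nat.gcd_dvd_left (4 * m + 3) (2 * m + 1))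
        ((Nat.gcd_dvd_right (4 * m + 3) (2 * m + 1)).mul_left 2)
      rw [show 4 * m + 3 - 2 * (2 * m + 1) = 1 by omega] at this
      exact this.trans (one_dvd 2)
    · refine coprime_of_dvd_two (by omega) ?_
      have := Nat.dvd_sub (Nat.gcd_dvd_left (4 * m + 3 + 1) (2 * m + 1))
        ((Nat.gcd_dvd_right (4 * m + 3 + 1) (2 * m + 1)).mul_left 2)
      rwa [show 4 * m + 3 + 1 - 2 * (2 * m + 1) = 2 by omega] at this
    · have hm : (centralizer ({g} : Set G)).index ∈
        Set.range (fun g : G => (centralizer ({g} : Set G)).index) := ⟨g, rfl⟩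
      rw [h] at hm
      simp only [Set.mem_insert_iff, Set.mem_singleton_iff] at hm
      rcases hm with e | e | e | e | e <;> simp [e]

theorem quotient_iso_even (h4 : 4 ≤ Nat.card F) (he : Even (Nat.card F))
    (h : sizes G = sizes (Matrix.ProjectiveSpecialLinearGroup (Fin 2) F)) :
    Nonempty (G ⧸ center G ≃* Matrix.ProjectiveSpecialLinearGroup (Fin 2) F) := by
  obtain ⟨p, hp⟩ := CharP.exists F
  have : Fact p.Prime := ⟨CharP.char_is_prime F p⟩
  obtain ⟨n, hn, hq, ⟨rfl, -⟩ | ⟨-, ho, -⟩⟩ := PSL2.q_cases (F := F) p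
  swap
  · exact absurd he (Nat.not_even_iff_odd.2 ho)
  have hn2 : 2 ≤ n := by
    by_contra hc
    rw [show n = 1 by omega] at hq
    omega
  exact exists_psl_even hq hn2 (hyp_even h4 he h).xhyp rfl

theorem quotient_iso_odd (h7 : 7 ≤ Nat.card F) (ho : Odd (Nat.card F))
    (h : sizes G = sizes (Matrix.ProjectiveSpecialLinearGroup (Fin 2) F)) :
    Nonempty (G ⧸ center G ≃* Matrix.ProjectiveSpecialLinearGroup (Fin 2) F) := by
  obtain ⟨p, hp⟩ := CharP.exists F
  have : Fact p.Prime := ⟨CharP.char_is_prime F p⟩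
  obtain ⟨n, hn, hq, ⟨-, he, -⟩ | ⟨hp2, -⟩⟩ := PSL2.q_cases (F := F) p
  · exact absurd he (Nat.not_even_iff_odd.2 ho)
  obtain ⟨y, z, hc, hH⟩ := hyp_odd h7 ho h
  exact exists_psl_odd (Fact.out) hp2 hq h7 hc hH.xhyp rfl

end Cfsg.Agent.PSLClassSizes
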