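import Cfsg.Agent.Lib.PSLClassSizes.Setup
import Cfsg.Agent.Lib.PSLClassSizes.PSLFacts
import Cfsg.Agent.Lib.SLTwoMult.Basic
import Cfsg.Agent.Lib.PSL2.Soluble

/-!
# Class sizes of `PSL(2,q)`: the derived group meets the centre trivially

* `Hyp.sylow_comm`: Sylow subgroups are abelian, except for `r = 2` and odd `q`
* `Hyp.sylow_two`: for odd `q` the derived group of a Sylow 2-subgroup meets the centre trivially
* `split`
-/

open Subgroup
open scoped commutatorElement Pointwise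

set_option autoImplicit false
set_option linter.unusedSectionVars false

namespace Cfsg.Agent.PSLClassSizes

open ThreeSizes

universe u v

variable {G : Type u} [Group G] [Finite G] {F : Type v} [Field F] [Finite F]

/-- centralizer of one element -/
local notation "cent" x:max => Subgroup.centralizer ({x} : Set _)

/-- the class size of an element -/
local notation "ix" g:max => Subgroup.index (Subgroup.centralizer ({g} : Set _))

namespace Hyp

variable {x y z d : ℕ} (h : Hyp G x y z d)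
include h

theorem map_eq_of_odd {r : ℕ} (hr : r.Prime) (hr2 : r ≠ 2 ∨ d = 1) {g : G} (hg : g ∉ center G)
    (hgr : IsElt r g) :
    (cent g).map (QuotientGroup.mk' (center G)) = cent (QuotientGroup.mk' (center G) g) := by
  refine eq_of_le_of_card_ge (map_cent_le g) (le_of_eq ?_)
  have hlt := factorization_lt hr hg hgr (center_le_cent g) (self_mem g)
  have hd : r ∣ x * y * z := by
    rw [← h.index_center]
    exact Nat.dvd_of_factorization_pos (by omega)
  obtain ⟨hx, hz, hy⟩ := h.size_of_elt hr hg hgr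
  rcases hr.dvd_mul.1 hd with hxy | hrz
  · rcases hr.dvd_mul.1 hxy with hrx | hry
    · exact (h.cent_image_simple hr hgr hrx (by ring) (h.cxy.mul_right h.cxz) (hx hrx)).1
    · obtain ⟨k, hk⟩ := card_cent_image hr hgr
      obtain ⟨hlo, hup⟩ := h.cent_y_elt hr hry hg hgr
      rw [hk] at hup ⊢
      have h1 : r ^ k ∣ d := Nat.dvd_of_mul_dvd_mul_left
        (Nat.card_pos (α := ↥((cent g).map (QuotientGroup.mk' (center G)))))
        ((hup.trans hlo).trans (dvd_of_eq (Nat.mul_comm _ _)))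
      have h2 : r ^ k = 1 := by
        rcases hr2 with e | e
        · refine Nat.eq_one_of_dvd_coprimes ((hr.coprime_iff_not_dvd.2 fun hd' => e ?_).pow_left k)
            dvd_rfl h1
          rcases h.hd with e' | ⟨e', -⟩ <;> rw [e'] at hd'
          · exact absurd hd' hr.not_dvd_one
          · exact (Nat.prime_dvd_prime_iff_eq hr Nat.prime_two).1 hd'
        · exact Nat.dvd_one.1 (e ▸ h1)
      rw [h2, mul_one]
  · exact (h.cent_image_simple hr hgr hrz (by ring) (h.cxz.symm.mul_right h.cyz.symm) (hz hrz)).1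

theorem sylow_comm {r : ℕ} [Fact r.Prime] (hr2 : r ≠ 2 ∨ (d = 1 ∧ Even (Nat.card F)))
    (e : G ⧸ center G ≃* PSL2.PSL2 F) (S : Sylow r G) :
    ∀ a ∈ (S : Subgroup G), ∀ b ∈ (S : Subgroup G), Commute a b := by
  intro a ha b hb
  by_cases hbc : b ∈ center G
  · exact mem_center_iff.1 hbc a
  have hbr : IsElt r b := isElt_of_mem S.2 hb
  set f : G →* PSL2.PSL2 F := e.toMonoidHom.comp (QuotientGroup.mk' (center G)) with hf
  have hc : Commute (f a) (f b) :=
    isPGroup_comm (hr2.imp id And.right) (S.2.map f) (mem_map_of_mem f ha) (mem_map_of_mem f hb)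
  have h1 : QuotientGroup.mk' (center G) a ∈ cent (QuotientGroup.mk' (center G) b) := by
    rw [mem_cent]
    apply e.injective
    rw [map_mul, map_mul]
    exact hc.eq
  rw [← h.map_eq_of_odd Fact.out (hr2.imp id And.left) hbc hbr] at h1
  obtain ⟨c, hcc, hca⟩ := h1
  have h2 : c⁻¹ * a ∈ center G := (QuotientGroup.eq).1 hca
  have h3 : a ∈ cent b := by
    rw [show a = c * (c⁻¹ * a) by group]
    exact mul_mem hcc (center_le_cent b h2)
  exact mem_cent.1 h3

theorem sylow_two (hd2 : d = 2) (ho : Odd (Nat.card F))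
    (e : G ⧸ center G ≃* PSL2.PSL2 F) :
    ∃ S : Sylow 2 G, ∀ z0 : (S : Subgroup G), z0 ∈ commutator (S : Subgroup G) →
      (z0 : G) ∈ center G → z0 = 1 := by
  haveI := Fact.mk Nat.prime_two
  set f : G →* PSL2.PSL2 F := e.toMonoidHom.comp (QuotientGroup.mk' (center G)) with hf
  have hfs : Function.Surjective f := e.surjective.comp (QuotientGroup.mk'_surjective _)
  have hker : ∀ g, f g = 1 ↔ g ∈ center G := fun g => by
    rw [hf, MonoidHom.comp_apply, MulEquiv.coe_toMonoidHom, MulEquiv.map_eq_one_iff]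
    exact QuotientGroup.eq_one_iff g
  have hxz : ¬ 2 ∣ x * z := by
    rcases h.hd with e' | ⟨-, h4⟩
    · omega
    intro hd'
    rcases Nat.prime_two.dvd_mul.1 hd' with e' | e'
    · exact absurd (Nat.eq_one_of_dvd_coprimes h.cxy e' ((by norm_num : 2 ∣ 4).trans h4)) (by norm_num)
    · exact absurd (Nat.eq_one_of_dvd_coprimes h.cyz.symm e' ((by norm_num : 2 ∣ 4).trans h4)) (by norm_num)
  -- an element with an odd class size, primary
  obtain ⟨g0, hg0⟩ := h.hB
  have hg0c : g0 ∉ center G := fun hc => by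
    rw [index_eq_one_iff.2 hc] at hg0
    have := h.hx; have := h.hz; nlinarith
  obtain ⟨t, ht, w0, hw0, hw0c, hw0t⟩ := exists_primary hg0c
  have hw0i : ix w0 = x * z := by
    have hdvd := Subgroup.index_dvd_of_le (cent_le_of_mem_zpowers hw0)
    rw [hg0] at hdvd
    have hx := h.hx; have hy := h.hy; have hz := h.hz
    rcases h.mem w0 with e' | e' | e' | e' | e' <;> rw [e'] at hdvd ⊢
    · exact absurd (index_eq_one_iff.1 e') hw0c
    · have := Nat.eq_one_of_dvd_coprimes (h.cxy.symm.mul_right h.cyz) (dvd_refl y)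
        ((dvd_mul_right y z).trans hdvd)
      omega
    · have := Nat.eq_one_of_dvd_coprimes (h.cxy.symm.mul_right h.cyz) (dvd_refl y)
        ((dvd_mul_left y x).trans hdvd)
      omega
    · rw [hd2] at hdvd
      exact absurd ((dvd_mul_right 2 _).trans hdvd) hxz
  obtain ⟨R⟩ : Nonempty (Sylow 2 G) := inferInstance
  obtain ⟨a, ha⟩ := exists_conj_le_cent R (g := w0) (by rw [hw0i]; exact hxz)
  set U := a * w0 * a⁻¹ with hU
  have hUc : U ∉ center G := fun hc => hw0c (by
    have := (inferInstance : (center G).Normal).conj_mem _ hc a⁻¹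
    simpa [hU, mul_assoc] using this)
  have hUt : IsElt t U := hw0t.conj a
  refine ⟨R, ?_⟩
  set SS := R.mapSurjective hfs with hSS
  have hSle : (SS : Subgroup (PSL2.PSL2 F)) ≤ cent (f U) := by
    rintro _ ⟨g, hg, rfl⟩
    rw [mem_cent, ← map_mul, ← map_mul, mem_cent.1 (ha hg)]
  have hfU1 : f U ≠ 1 := fun e' => hUc ((hker U).1 e')
  have hfUo : orderOf (f U) = 2 := by
    by_contra hne
    have h1 : orderOf (f U) ≠ 1 := fun e' => hfU1 (orderOf_eq_one_iff.1 e')
    have := orderOf_pos (f U)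
    exact no_cover ho SS (by omega) hSle
  have hUt2 : IsElt 2 U := by
    obtain ⟨k, hk⟩ := hUt
    have h2 : 2 ∣ t ^ k := hk ▸ hfUo ▸ orderOf_map_dvd f U
    exact ⟨k, by rw [(Nat.prime_dvd_prime_iff_eq Nat.prime_two ht).1 (Nat.prime_two.dvd_of_dvd_pow h2), hk]⟩
  have hUS : U ∈ (R : Subgroup G) := by
    have hp : IsPGroup 2 ↥((R : Subgroup G) ⊔ zpowers U) := by
      refine IsPGroup.to_sup_of_normal_left' R.2 (isPGroup_zpowers hUt2) ?_
      rw [zpowers_le]
      refine Subgroup.centralizer_le_normalizer _ (mem_centralizer_iff.2 fun g hg => ?_)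
      exact mem_cent.1 (ha hg)
    exact R.3 hp le_sup_left ▸ mem_sup_right (mem_zpowers U)
  have hUSS : f U ∈ (SS : Subgroup (PSL2.PSL2 F)) := ⟨U, hUS, rfl⟩
  have hSScU : ∀ s ∈ (SS : Subgroup (PSL2.PSL2 F)), Commute s (f U) := fun s hs => mem_cent.1 (hSle hs)
  -- a cyclic subgroup of index two
  obtain ⟨w, hwS, hwo, hUw⟩ : ∃ w ∈ (SS : Subgroup (PSL2.PSL2 F)),
      2 * orderOf w = Nat.card (SS : Subgroup (PSL2.PSL2 F)) ∧ f U ∈ zpowers w := by
    obtain ⟨m, hm⟩ : 2 ∣ Nat.card (SS : Subgroup (PSL2.PSL2 F)) := by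
      have h0 := orderOf_dvd_natCard (⟨f U, hUSS⟩ : (SS : Subgroup (PSL2.PSL2 F)))
      rwa [Subgroup.orderOf_mk, hfUo] at h0
    by_cases hm2 : m = 2
    · exact ⟨f U, hUSS, by rw [hfUo, hm, hm2], mem_zpowers _⟩
    have hmd : 2 * m ∣ Nat.card F - 1 ∨ 2 * m ∣ Nat.card F + 1 := by
      obtain ⟨h1, h3⟩ := PSL2.card_centralizer_involution ho hfUo
      have hd' := card_dvd_of_le hSle
      rw [hm] at hd'
      have := Nat.odd_iff.1 ho
      rcases (show Nat.card F % 4 = 1 ∨ Nat.card F % 4 = 3 by omega) with e' | e'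
      · exact Or.inl (h1 e' ▸ hd')
      · exact Or.inr (h3 e' ▸ hd')
    obtain ⟨p, hp⟩ := CharP.exists F
    have : Fact p.Prime := ⟨CharP.char_is_prime F p⟩
    obtain ⟨n, -, -, ⟨-, he, -⟩ | ⟨-, -, hd', -⟩⟩ := PSL2.q_cases (F := F) p
    · exact absurd he (Nat.not_even_iff_odd.2 ho)
    obtain ⟨w1, hw1⟩ := PSL2.exists_psl_orderOf (F := F) p (m := m) (Or.inr (by
      rw [hd']
      rcases hmd with e' | e'
      · left; exact Nat.dvd_div_of_mul_dvd e'
      · right; exact Nat.dvd_div_of_mul_dvd e'))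
    have hw1t : IsPGroup 2 (zpowers w1) := by
      obtain ⟨k, hk⟩ := IsPGroup.iff_card.1 SS.2
      rw [hm] at hk
      obtain ⟨j, -, hj⟩ := (Nat.dvd_prime_pow Nat.prime_two).1 (hk ▸ dvd_mul_left m 2)
      exact IsPGroup.of_card (n := j) (by rw [Nat.card_zpowers, hw1, hj])
    obtain ⟨Q, hQ⟩ := hw1t.exists_le_sylow
    obtain ⟨b, hb⟩ := MulAction.exists_smul_eq (PSL2.PSL2 F) Q SS
    set w := b * w1 * b⁻¹ with hw
    have hwm : orderOf w = m := by
      rw [hw, show b * w1 * b⁻¹ = MulAut.conj b w1 from rfl, MulEquiv.orderOf_eq, hw1]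
    have hwS : w ∈ (SS : Subgroup (PSL2.PSL2 F)) := by
      rw [← hb, Sylow.coe_subgroup_smul, Subgroup.mem_pointwise_smul_iff_inv_smul_mem, ← map_inv,
        MulAut.smul_def, MulAut.conj_apply, inv_inv]
      simpa [hw, mul_assoc] using hQ (mem_zpowers w1)
    refine ⟨w, hwS, by rw [hwm, hm], ?_⟩
    by_contra hUn
    have hhalf : Half (SS : Subgroup (PSL2.PSL2 F)) (zpowers w) := by
      refine half_of_card ?_
      rw [inf_eq_right.2 (zpowers_le.2 hwS), Nat.card_zpowers, hwm, hm]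
    have hm3 : 3 ≤ m := by
      have hm0 : 0 < m := hwm ▸ orderOf_pos w
      by_contra hc
      obtain rfl : m = 1 := by omega
      have h4 : 2 ^ 2 ∣ Nat.card (PSL2.PSL2 F) := by
        refine Dvd.dvd.trans ?_ (card_subgroup_dvd_card (cent (f U)))
        obtain ⟨h1, h3⟩ := PSL2.card_centralizer_involution ho hfUo
        have := Nat.odd_iff.1 ho
        rcases (show Nat.card F % 4 = 1 ∨ Nat.card F % 4 = 3 by omega) with e' | e'
        · rw [h1 e']; omega
        · rw [h3 e']; omega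
      have h5 := SS.pow_dvd_card_of_pow_dvd_card h4
      rw [hm] at h5
      omega
    refine no_cover ho SS (w := w) (by omega) fun s hs => ?_
    rw [mem_cent]
    by_cases hsw : s ∈ zpowers w
    · obtain ⟨i, rfl⟩ := mem_zpowers_iff.1 hsw
      exact ((Commute.refl w).zpow_left i).eq
    · have h1 : (f U)⁻¹ * s ∈ zpowers w := (hhalf _ (inv_mem hUSS) s hs).2
        (iff_of_false (fun e' => hUn (inv_mem_iff.1 e')) hsw)
      obtain ⟨i, hi⟩ := mem_zpowers_iff.1 h1
      have h2 : s = f U * w ^ i := by rw [hi]; group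
      rw [h2]
      exact ((hSScU w hwS).symm.mul_left ((Commute.refl w).zpow_left i)).eq
  have hhalf : Half (SS : Subgroup (PSL2.PSL2 F)) (zpowers w) := by
    refine half_of_card ?_
    rw [inf_eq_right.2 (zpowers_le.2 hwS), Nat.card_zpowers, hwo]
  obtain ⟨W, hW, hWw⟩ := hwS
  set A : Subgroup G := (R : Subgroup G) ⊓ (zpowers w).comap f with hA
  have hAform : ∀ c ∈ A, ∃ (i : ℤ) (z1 : G), z1 ∈ center G ∧ c = W ^ i * z1 := by
    intro c hc
    obtain ⟨i, hi⟩ := mem_zpowers_iff.1 (mem_comap.1 hc.2)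
    exact ⟨i, (W ^ i)⁻¹ * c, (hker _).1 (by rw [map_mul, map_inv, map_zpow, hWw, hi, inv_mul_cancel]),
      by group⟩
  have hAab : ∀ c ∈ A, ∀ c' ∈ A, Commute c c' := by
    intro c hc c' hc'
    obtain ⟨i, z1, hz1, rfl⟩ := hAform c hc
    obtain ⟨j, z2, hz2, rfl⟩ := hAform c' hc'
    have e1 : ∀ g, Commute g z1 := fun g => mem_center_iff.1 hz1 g
    have e2 : ∀ g, Commute g z2 := fun g => mem_center_iff.1 hz2 g
    exact (((Commute.refl W).zpow_zpow i j).mul_right (e2 _)).mul_left ((e1 _).symm)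
  have hAhalf : Half (R : Subgroup G) A := by
    intro c hc c' hc'
    simp only [hA, Subgroup.mem_inf, mul_mem hc hc', hc, hc', true_and, Subgroup.mem_comap, map_mul]
    exact hhalf _ ⟨c, hc, rfl⟩ _ ⟨c', hc', rfl⟩
  obtain ⟨v, hv, hvA⟩ : ∃ v ∈ (R : Subgroup G), v ∉ A := by
    by_contra! hall
    have h1 : (SS : Subgroup (PSL2.PSL2 F)) ≤ zpowers w := by
      rintro _ ⟨c, hc, rfl⟩; exact mem_comap.1 (hall c hc).2
    have h2 := Nat.le_of_dvd Nat.card_pos (card_dvd_of_le h1)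
    rw [← hwo, Nat.card_zpowers] at h2
    have := orderOf_pos w
    omega
  have hcommA : ∀ c ∈ A, ⁅v, c⁆ ∈ A := fun c hc => hAhalf.comm_mem hv hc.1
  let θ : A →* G := MonoidHom.mk' (fun c => ⁅v, (c : G)⁆) fun c c' => by
    show ⁅v, (c : G) * c'⁆ = ⁅v, (c : G)⁆ * ⁅v, (c' : G)⁆
    rw [commutatorElement_mul_right_eq_mul_conj]
    rw [mul_assoc _ (c : G) _, (hAab c c.2 _ (hcommA c' c'.2)).eq, ← mul_assoc, mul_inv_cancel_right]
  have hconjA : ∀ c ∈ A, v * c * v⁻¹ ∈ A := fun c hc => hAhalf.conj_mem hv hc.1 hc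
  have hθinv : ∀ c ∈ A, ⁅c, v⁆ ∈ θ.range := fun c hc => by
    rw [← commutatorElement_inv]; exact inv_mem ⟨⟨c, hc⟩, rfl⟩
  have hθconj : ∀ s ∈ θ.range, v * s * v⁻¹ ∈ θ.range := by
    rintro _ ⟨c, rfl⟩
    exact ⟨⟨_, hconjA c c.2⟩, by
      show ⁅v, v * (c : G) * v⁻¹⁆ = v * ⁅v, (c : G)⁆ * v⁻¹
      simp only [commutatorElement_def]; group⟩
  have hcases : ∀ c ∈ (R : Subgroup G), c ∈ A ∨ ∃ c0 ∈ A, c = v * c0 := by
    intro c hc
    by_cases hcA : c ∈ A
    · exact Or.inl hcA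
    · exact Or.inr ⟨v⁻¹ * c, (hAhalf _ (inv_mem hv) c hc).2
        (iff_of_false (fun e' => hvA (inv_mem_iff.1 e')) hcA), by group⟩
  have hmix : ∀ p ∈ A, ∀ q ∈ A, ⁅v * p, q⁆ = ⁅v, q⁆ := by
    intro p hp q hq
    have e' : p * q * p⁻¹ = q := by rw [(hAab p hp q hq).eq]; group
    calc ⁅v * p, q⁆ = v * (p * q * p⁻¹) * v⁻¹ * q⁻¹ := by rw [commutatorElement_def]; group
      _ = ⁅v, q⁆ := by rw [e', commutatorElement_def]
  have hle : (commutator (R : Subgroup G)).map (R : Subgroup G).subtype ≤ θ.range := by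
    rw [_root_.commutator_def, map_commutator, Subgroup.commutator_le]
    rintro _ ⟨c, -, rfl⟩ _ ⟨c', -, rfl⟩
    simp only [Subgroup.coe_subtype]
    rcases hcases c c.2 with h1 | ⟨p, hp, h1⟩ <;> rcases hcases c' c'.2 with h2 | ⟨q, hq, h2⟩
    · rw [commutatorElement_eq_one_iff_mul_comm.2 (hAab _ h1 _ h2).eq]; exact one_mem _
    · rw [h2, ← commutatorElement_inv, hmix q hq _ h1]; exact inv_mem ⟨⟨_, h1⟩, rfl⟩
    · rw [h1, hmix p hp _ h2]; exact ⟨⟨_, h2⟩, rfl⟩
    · rw [h1, h2]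
      have e' : ⁅v * p, v * q⁆ = (v * ⁅p, v⁆ * v⁻¹) * (v * ⁅v, q⁆ * v⁻¹) := by
        calc ⁅v * p, v * q⁆ = ⁅v * p, v⁆ * (v * ⁅v * p, q⁆ * v⁻¹) := by
              rw [commutatorElement_mul_right_eq_mul_conj]; group
          _ = _ := by rw [hmix p hp q hq]; simp only [commutatorElement_def]; group
      rw [e']
      exact mul_mem (hθconj _ (hθinv p hp)) (hθconj _ ⟨⟨q, hq⟩, rfl⟩)
  intro z0 hz0 hzc
  obtain ⟨⟨c, hc⟩, hcz⟩ := hle ⟨z0, hz0, rfl⟩
  refine Subtype.ext ?_
  show (z0 : G) = 1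
  have hcz' : ⁅v, c⁆ = (z0 : G) := hcz
  have hfc : Commute (f v) (f c) := by
    rw [← commutatorElement_eq_one_iff_commute, ← map_commutatorElement, hcz']
    exact (hker _).2 hzc
  obtain ⟨i, hi⟩ := mem_zpowers_iff.1 (mem_comap.1 hc.2)
  have hvn : f v ∉ zpowers w := fun e' => hvA ⟨hv, e'⟩
  have hsmall : orderOf (f c) ≤ 2 := by
    by_contra hc3
    refine no_cover ho SS (w := f c) (by omega) fun s hs => ?_
    rw [mem_cent]
    by_cases hsw : s ∈ zpowers w
    · obtain ⟨j, rfl⟩ := mem_zpowers_iff.1 hsw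
      rw [← hi]
      exact ((Commute.refl w).zpow_zpow j i).eq
    · obtain ⟨j, hj⟩ := mem_zpowers_iff.1 ((hhalf _ (inv_mem ⟨v, hv, rfl⟩) s hs).2
        (iff_of_false (fun e' => hvn (inv_mem_iff.1 e')) hsw))
      have h2 : s = f v * w ^ j := by rw [hj]; group
      rw [h2]
      exact (hfc.mul_left (hi ▸ (Commute.refl w).zpow_zpow j i)).eq
  have hcases2 : f c = 1 ∨ f c = f U := by
    by_cases h1 : f c = 1
    · exact Or.inl h1
    have h2 : orderOf (f c) = 2 := by
      have := orderOf_pos (f c)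
      have : orderOf (f c) ≠ 1 := fun e' => h1 (orderOf_eq_one_iff.1 e')
      omega
    right
    obtain ⟨n, hn⟩ : 2 ∣ orderOf w := (by
      have h0 := orderOf_dvd_of_mem_zpowers hUw
      rwa [hfUo] at h0)
    have key : ∀ s ∈ zpowers w, orderOf s = 2 → s = w ^ n := by
      intro s hs hs2
      obtain ⟨k, rfl⟩ := mem_zpowers_iff.1 hs
      have h3 : w ^ (k * 2) = 1 := by
        rw [zpow_mul]; exact_mod_cast hs2 ▸ pow_orderOf_eq_one (w ^ k)
      have hdk : (orderOf w : ℤ) ∣ k * 2 := orderOf_dvd_iff_zpow_eq_one.2 h3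
      rw [hn] at hdk
      obtain ⟨l, hl⟩ := hdk
      have hl' : k = (n : ℤ) * l := by push_cast at hl; linarith
      have hwn : (w ^ n) ^ 2 = 1 := by rw [← pow_mul, mul_comm, ← hn, pow_orderOf_eq_one]
      have hev : ∀ l' : ℤ, (w ^ n) ^ (2 * l') = 1 := fun l' => by
        rw [zpow_mul, zpow_ofNat, hwn, one_zpow]
      rw [hl', zpow_mul, zpow_natCast] at hs2 ⊢
      rcases Int.even_or_odd l with ⟨l', hl'⟩ | ⟨l', hl'⟩
      · rw [hl', ← two_mul, hev, orderOf_one] at hs2
        omega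
      · rw [hl', zpow_add_one, hev, one_mul]
    rw [key (f c) (mem_comap.1 hc.2) h2, key (f U) hUw hfUo]
  rw [← hcz', commutatorElement_eq_one_iff_mul_comm]
  rcases hcases2 with e' | e'
  · exact mem_center_iff.1 ((hker c).1 e') v
  · have h1 : U⁻¹ * c ∈ center G := (hker _).1 (by rw [map_mul, map_inv, e', inv_mul_cancel])
    have h2 : Commute v U := mem_cent.1 (ha hv)
    have h3 : Commute v (U⁻¹ * c) := mem_center_iff.1 h1 v
    simpa using (h2.mul_right h3).eq

end Hyp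

theorem split (h4 : 4 ≤ Nat.card F) (h5 : Odd (Nat.card F) → 7 ≤ Nat.card F)
    (h : sizes G = sizes (PSL2.PSL2 F)) :
    ∃ N A : Subgroup G, N.Normal ∧ A ≤ center G ∧ N ⊓ A = ⊥ ∧ N ⊔ A = ⊤ ∧
      Nonempty (N ≃* PSL2.PSL2 F) := by
  obtain ⟨x, y, z, d, hH, he, hpar⟩ : ∃ x y z d, Hyp G x y z d ∧
      Nonempty (G ⧸ center G ≃* PSL2.PSL2 F) ∧
      ((d = 1 ∧ Even (Nat.card F)) ∨ (d = 2 ∧ Odd (Nat.card F))) := by
    rcases Nat.even_or_odd (Nat.card F) with he | ho
    · exact ⟨_, _, _, _, hyp_even h4 he h, quotient_iso_even h4 he h, Or.inl ⟨rfl, he⟩⟩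
    · obtain ⟨y, z, -, hH⟩ := hyp_odd (h5 ho) ho h
      exact ⟨_, _, _, _, hH, quotient_iso_odd (h5 ho) ho h, Or.inr ⟨rfl, ho⟩⟩
  obtain ⟨e⟩ := he
  have hbot : commutator G ⊓ center G = ⊥ := by
    rw [eq_bot_iff]
    rintro g ⟨hg1, hg2⟩
    rw [mem_bot]
    by_contra hne
    obtain ⟨r, hr, hd⟩ := Nat.exists_prime_and_dvd (fun e => hne (orderOf_eq_one_iff.1 e))
    haveI := Fact.mk hr
    set g' := g ^ (orderOf g / r) with hg'
    have ho : orderOf g' = r := orderOf_pow_orderOf_div (orderOf_pos g).ne' hd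
    have hc : g' ∈ center G := pow_mem hg2 _
    have hD : g' ∈ commutator G := pow_mem hg1 _
    obtain ⟨S, hS⟩ : ∃ S : Sylow r G, ∀ z0 : (S : Subgroup G), z0 ∈ commutator (S : Subgroup G) →
        (z0 : G) ∈ center G → z0 = 1 := by
      by_cases hr2 : r = 2 ∧ d = 2
      · obtain ⟨rfl, hd2⟩ := hr2
        rcases hpar with ⟨e1, -⟩ | ⟨-, ho'⟩
        · omega
        · exact hH.sylow_two hd2 ho' e
      · obtain ⟨S⟩ : Nonempty (Sylow r G) := inferInstance
        refine ⟨S, fun z0 hz0 _ => SLTwoMult.eq_one_of_commute (fun a b => Subtype.ext ?_) hz0⟩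
        refine (hH.sylow_comm ?_ e S a a.2 b b.2).eq
        rcases hpar with ⟨e1, he'⟩ | ⟨e1, -⟩
        · exact Or.inr ⟨e1, he'⟩
        · exact Or.inl fun e2 => hr2 ⟨e2, e1⟩
    have hgS : g' ∈ (S : Subgroup G) := by
      have hp : IsPGroup r ↥((S : Subgroup G) ⊔ zpowers g') := by
        refine IsPGroup.to_sup_of_normal_left' S.2 (isPGroup_zpowers ⟨1, by rw [ho, pow_one]⟩) ?_
        rw [zpowers_le]
        exact Subgroup.centralizer_le_normalizer _ (center_le_centralizer _ hc)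
      exact S.3 hp le_sup_left ▸ mem_sup_right (mem_zpowers g')
    have h1 := SLTwoMult.mem_commutator_sylow S ⟨g', hgS⟩ hc hD
      (Subtype.ext (show g' ^ r = 1 from orderOf_dvd_iff_pow_eq_one.1 ho.dvd))
    have h2 : g' = 1 := congrArg Subtype.val (hS _ h1 hc)
    rw [h2, orderOf_one] at ho
    exact hr.ne_one ho.symm
  set f : G →* PSL2.PSL2 F := e.toMonoidHom.comp (QuotientGroup.mk' (center G)) with hf
  have hfs : Function.Surjective f := e.surjective.comp (QuotientGroup.mk'_surjective _)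
  have hker : ∀ g, f g = 1 ↔ g ∈ center G := fun g => by
    rw [hf, MonoidHom.comp_apply, MulEquiv.coe_toMonoidHom, MulEquiv.map_eq_one_iff]
    exact QuotientGroup.eq_one_iff g
  haveI := PSL2.isSimpleGroup_psl (L := F) h4
  have hperf : commutator (PSL2.PSL2 F) = ⊤ := by
    rcases (inferInstance : (commutator (PSL2.PSL2 F)).Normal).eq_bot_or_eq_top with h1 | h1
    swap
    · exact h1
    exfalso
    have hab : ∀ a b : PSL2.PSL2 F, a * b = b * a := fun a b =>
      commutatorElement_eq_one_iff_mul_comm.1 (mem_bot.1 (h1 ▸ commutator_mem_commutator (mem_top a) (mem_top b)))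
    obtain ⟨a, ha⟩ := hH.hA
    have h2 : (cent a).map f = ⊤ → False := by
      intro e'
      have : cent a = ⊤ := by
        rw [eq_top_iff]
        intro g _
        obtain ⟨c, hc, hcg⟩ : f g ∈ (cent a).map f := e' ▸ mem_top _
        have : c⁻¹ * g ∈ center G := (hker _).1 (by rw [map_mul, map_inv, hcg, inv_mul_cancel])
        rw [show g = c * (c⁻¹ * g) by group]
        exact mul_mem hc (center_le_cent a this)
      rw [this, Subgroup.index_top] at ha
      have := hH.hy; have := hH.hz; nlinarith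
    rcases (Subgroup.Normal.eq_bot_or_eq_top (H := (cent a).map f)
      ⟨fun p hp q => by rwa [show q * p * q⁻¹ = p by rw [hab q p]; group]⟩) with e' | e'
    · refine h2 (eq_top_iff.2 fun p _ => ?_)
      have h3 : f a ∈ (cent a).map f := mem_map_of_mem f (self_mem a)
      rw [e', mem_bot, hker] at h3
      obtain ⟨g, rfl⟩ := hfs p
      exact mem_map_of_mem f (mem_cent.2 (mem_center_iff.1 h3 g))
    · exact h2 e'
  have hmap : (commutator G).map f = ⊤ := by
    rw [_root_.commutator_def, map_commutator, Subgroup.map_top_of_surjective f hfs]; exact hperf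
  refine ⟨commutator G, center G, inferInstance, le_rfl, hbot, ?_, ?_⟩
  · rw [eq_top_iff]
    intro g _
    obtain ⟨c, hc, hcg⟩ : f g ∈ (commutator G).map f := hmap ▸ mem_top _
    rw [show g = c * (c⁻¹ * g) by group]
    exact mul_mem (mem_sup_left hc)
      (mem_sup_right ((hker _).1 (by rw [map_mul, map_inv, hcg, inv_mul_cancel])))
  · refine ⟨MulEquiv.ofBijective (f.comp (commutator G).subtype) ⟨?_, fun p => ?_⟩⟩
    · rw [← MonoidHom.ker_eq_bot_iff, eq_bot_iff]
      rintro ⟨g, hg⟩ hgk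
      rw [mem_bot]
      refine Subtype.ext ?_
      have : g ∈ commutator G ⊓ center G := ⟨hg, (hker g).1 hgk⟩
      rwa [hbot, mem_bot] at this
    · obtain ⟨c, hc, hcg⟩ : p ∈ (commutator G).map f := hmap ▸ mem_top _
      exact ⟨⟨c, hc⟩, hcg⟩

end Cfsg.Agent.PSLClassSizes
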